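import Cfsg.Agent.Lib.GLn.UCount
import Cfsg.Agent.Lib.GLn.Classes

/-!
Upper bounds for the number of conjugacy classes of `GL n F` and `SL n F`.
-/

set_option autoImplicit false

namespace Cfsg.Agent.GLn

open Polynomial Finset

variable {F : Type*} [Field F] {n : Type*} [Fintype n] [DecidableEq n]

/-- The product of the polynomials of a type which occur with exponent `i`. -/
noncomputable def phiU (D : Multiset (F[X] × ℕ)) (i : ℕ) : F[X] :=
  ((D.filter fun x => x.2 = i).map Prod.fst).prod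

theorem phiU_zero (i : ℕ) : phiU (0 : Multiset (F[X] × ℕ)) i = 1 := by simp [phiU]

theorem phiU_cons (x : F[X] × ℕ) (D : Multiset (F[X] × ℕ)) (i : ℕ) :
    phiU (x ::ₘ D) i = (if x.2 = i then x.1 else 1) * phiU D i := by
  rw [phiU, Multiset.filter_cons]
  split_ifs <;> simp [phiU]

theorem Valid.monic_phiU {D : Multiset (F[X] × ℕ)} (hD : Valid D) (i : ℕ) : (phiU D i).Monic :=
  monic_multiset_prod_of_monic _ _ fun x hx => (hD x (Multiset.mem_of_mem_filter hx)).1

theorem prod_phiU_pow {D : Multiset (F[X] × ℕ)} {M : ℕ} (hM : ∀ x ∈ D, x.2 ≤ M) :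
    ∏ i ∈ range (M + 1), phiU D i ^ i = chp D := by
  induction D using Multiset.induction_on with
  | empty => simp [phiU_zero, chp]
  | cons x D ih =>
    simp only [phiU_cons, mul_pow, prod_mul_distrib]
    rw [ih fun y hy => hM y (Multiset.mem_cons_of_mem hy), chp, chp, Multiset.map_cons,
      Multiset.prod_cons, prod_eq_single x.2]
    · simp
    · intro j _ hj
      rw [if_neg hj.symm, one_pow]
    · intro h
      exact absurd (mem_range.2 (Nat.lt_succ_of_le (hM x (Multiset.mem_cons_self _ _)))) h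

theorem Valid.phiU_ne_one_iff {D : Multiset (F[X] × ℕ)} (hD : Valid D) (i : ℕ) :
    phiU D i ≠ 1 ↔ ∃ x ∈ D, x.2 = i := by
  constructor
  · intro h
    by_contra h1
    push Not at h1
    apply h
    rw [phiU, Multiset.filter_eq_nil.2 h1]
    simp
  · rintro ⟨x, hx, rfl⟩ h
    have : x.1 ∣ phiU D x.2 :=
      Multiset.dvd_prod (Multiset.mem_map_of_mem _ (Multiset.mem_filter.2 ⟨hx, rfl⟩))
    rw [h] at this
    exact (hD x hx).2.1.not_dvd_one this

open scoped Classical in
theorem Valid.normalizedFactors_phiU {D : Multiset (F[X] × ℕ)} (hD : Valid D) (i : ℕ) :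
    UniqueFactorizationMonoid.normalizedFactors (phiU D i) =
      (D.filter fun x => x.2 = i).map Prod.fst := by
  rw [phiU, UniqueFactorizationMonoid.normalizedFactors_prod_eq]
  · rw [Multiset.map_map]
    exact Multiset.map_congr rfl fun x hx =>
      (hD x (Multiset.mem_of_mem_filter hx)).1.normalize_eq_self
  · intro f hf
    obtain ⟨x, hx, rfl⟩ := Multiset.mem_map.1 hf
    exact (hD x (Multiset.mem_of_mem_filter hx)).2.1

theorem eq_of_phiU_eq {D D' : Multiset (F[X] × ℕ)} (hD : Valid D) (hD' : Valid D')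
    (h : phiU D = phiU D') : D = D' := by
  classical
  have key : ∀ (E : Multiset (F[X] × ℕ)) (f : F[X]) (i : ℕ),
      E.count (f, i) = ((E.filter fun x => x.2 = i).map Prod.fst).count f := by
    intro E f i
    rw [Multiset.count_map, Multiset.filter_filter, Multiset.count_eq_card_filter_eq]
    congr 1
    exact Multiset.filter_congr fun x _ => by
      rw [Prod.ext_iff]
      simp [eq_comm]
  ext ⟨f, i⟩
  rw [key, key, ← hD.normalizedFactors_phiU, ← hD'.normalizedFactors_phiU, h]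

theorem Valid.snd_le_wt {D : Multiset (F[X] × ℕ)} (hD : Valid D) {x : F[X] × ℕ} (hx : x ∈ D) :
    x.2 ≤ wt D := by
  have h1 := snd_mul_natDegree_le_wt hx
  have h2 := (hD x hx).2.1.natDegree_pos
  nlinarith

theorem cstU_phiU {D : Multiset (F[X] × ℕ)} {M : ℕ} (hM : ∀ x ∈ D, x.2 ≤ M) :
    cstU M (phiU D) = (chp D).coeff 0 := by
  rw [← prod_phiU_pow hM, cstU, coeff_zero_prod]
  simp only [coeff_zero_eq_eval_zero, eval_pow]

theorem Valid.isU_phiU {D : Multiset (F[X] × ℕ)} (hD : Valid D) (hX : ∀ x ∈ D, x.1 ≠ X) {M : ℕ}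
    (hM : wt D ≤ M) : IsU M (wt D) (phiU D) := by
  have hM' : ∀ x ∈ D, x.2 ≤ M := fun x hx => (hD.snd_le_wt hx).trans hM
  refine ⟨hD.monic_phiU, fun i => ?_, ?_, fun i hi => ?_, ?_⟩
  · rw [Ne, ← X_dvd_iff]
    intro hd
    obtain ⟨f, hf, hXf⟩ := prime_X.exists_mem_multiset_dvd hd
    obtain ⟨x, hx, rfl⟩ := Multiset.mem_map.1 hf
    have hx' := Multiset.mem_of_mem_filter hx
    exact hX x hx' (eq_of_monic_of_associated (hD x hx').1 monic_X
      ((irreducible_X.dvd_irreducible_iff_associated (hD x hx').2.1).1 hXf).symm)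
  · by_contra h
    obtain ⟨x, hx, h0⟩ := (hD.phiU_ne_one_iff 0).1 h
    exact (hD x hx).2.2.ne' h0
  · by_contra h
    obtain ⟨x, hx, rfl⟩ := (hD.phiU_ne_one_iff i).1 h
    exact absurd (hM' x hx) (not_le.2 hi)
  · rw [← hD.natDegree_chp, ← prod_phiU_pow hM', natDegree_prod_of_monic _ _
      fun i _ => (hD.monic_phiU i).pow i]
    exact sum_congr rfl fun i _ => ((hD.monic_phiU i).natDegree_pow i).symm

theorem isU_phiU_typ {A : Matrix n n F} (hA : A.det ≠ 0) {M : ℕ} (hM : Fintype.card n ≤ M) :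
    IsU M (Fintype.card n) (phiU (typ A)) := by
  have := (valid_typ A).isU_phiU ((det_ne_zero_iff_typ A).1 hA) (M := M) (by rwa [wt_typ])
  rwa [wt_typ] at this

theorem card_conjClasses_GL_le [Finite F] :
    Nat.card (ConjClasses (GL n F)) ≤ Nat.card F ^ Fintype.card n := by
  rw [card_conjClasses_GL]
  refine le_trans ?_ (card_UT_le (M := Fintype.card n + 2) (by omega) (by omega))
  refine Nat.card_le_card_of_injective (fun D => ⟨phiU D.1, ?_⟩) ?_
  · have := D.2.1.isU_phiU D.2.2.2 (M := Fintype.card n + 2) (by rw [D.2.2.1]; omega)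
    rwa [D.2.2.1] at this
  · intro D D' h
    exact Subtype.ext (eq_of_phiU_eq D.2.1 D'.2.1 (congrArg Subtype.val h))

theorem exists_commute_det_of_mem_HSub [Finite F] (A : Matrix n n F) {t : Fˣ}
    (ht : t ∈ HSub F (suppU (phiU (typ A)))) :
    ∃ P : GL n F, (P : Matrix n n F) * A = A * P ∧ Matrix.GeneralLinearGroup.det P = t := by
  rw [HSub, iSup_subtype'] at ht
  induction ht using Subgroup.iSup_induction' with
  | hp i x hx =>
    obtain ⟨c, rfl⟩ := hx
    obtain ⟨y, hy, h⟩ := ((valid_typ A).phiU_ne_one_iff i.1).1 i.2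
    obtain ⟨P, h1, h2⟩ := exists_commute_det A hy c
    exact ⟨P, h1, by rw [h2, h]; rfl⟩
  | h1 => exact ⟨1, by simp, by simp⟩
  | hmul x y _ _ hx hy =>
    obtain ⟨P, hP, rfl⟩ := hx
    obtain ⟨Q, hQ, rfl⟩ := hy
    refine ⟨P * Q, ?_, map_mul _ _ _⟩
    rw [Units.val_mul, mul_assoc, hQ, ← mul_assoc, hP, mul_assoc]

/-- The sequence of polynomials attached to a conjugacy class of `SL n F`. -/
noncomputable def clsU (c : ConjClasses (Matrix.SpecialLinearGroup n F)) : ℕ → F[X] :=
  Quotient.lift (s := IsConj.setoid _)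
    (fun g : Matrix.SpecialLinearGroup n F => phiU (typ (g : Matrix n n F)))
    (fun _ _ h => by rw [typ_eq_of_isConj_SL h]) c

theorem clsU_mk (g : Matrix.SpecialLinearGroup n F) :
    clsU (ConjClasses.mk g) = phiU (typ (g : Matrix n n F)) := rfl

theorem isU_clsU (c : ConjClasses (Matrix.SpecialLinearGroup n F)) {M : ℕ}
    (hM : Fintype.card n ≤ M) : IsU M (Fintype.card n) (clsU c) := by
  obtain ⟨g, rfl⟩ := ConjClasses.exists_rep c
  exact isU_phiU_typ (by simp) hM

theorem cstU_clsU (c : ConjClasses (Matrix.SpecialLinearGroup n F)) {M : ℕ}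
    (hM : Fintype.card n ≤ M) : cstU M (clsU c) = (-1) ^ Fintype.card n := by
  obtain ⟨g, rfl⟩ := ConjClasses.exists_rep c
  rw [clsU_mk, cstU_phiU fun x hx => (snd_le_card_of_mem_typ hx).trans hM]
  have h := det_eq_typ (g : Matrix n n F)
  rw [g.det_coe] at h
  have h1 : ((-1 : F) ^ Fintype.card n) * (-1) ^ Fintype.card n = 1 := by rw [← mul_pow]; simp
  linear_combination (-(-1) ^ Fintype.card n) * h -
    (chp (typ (g : Matrix n n F))).coeff 0 * h1

theorem card_clsU_fiber_le [Finite F] (u : ℕ → F[X]) :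
    Nat.card {c : ConjClasses (Matrix.SpecialLinearGroup n F) // clsU c = u} ≤ gU u := by
  rcases isEmpty_or_nonempty {c : ConjClasses (Matrix.SpecialLinearGroup n F) // clsU c = u} with
    h | ⟨⟨c₀, hc₀⟩⟩
  · simp
  obtain ⟨g₀, rfl⟩ := ConjClasses.exists_rep c₀
  subst hc₀
  have h1 : ∀ c : {c : ConjClasses (Matrix.SpecialLinearGroup n F) //
      clsU c = clsU (ConjClasses.mk g₀)}, ∃ (g : Matrix.SpecialLinearGroup n F) (P : GL n F),
      ConjClasses.mk g = c.1 ∧ (P : Matrix n n F) * g₀ = g * P := by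
    rintro ⟨c, hc⟩
    obtain ⟨g, rfl⟩ := ConjClasses.exists_rep c
    obtain ⟨P, hP⟩ := (similar_iff_typ_eq _ _).2
      (eq_of_phiU_eq (valid_typ _) (valid_typ _) hc).symm
    exact ⟨g, P, rfl, hP⟩
  choose g P hg hP using h1
  refine Nat.card_le_card_of_injective (β := Fˣ ⧸ HSub F (suppU (clsU (ConjClasses.mk g₀))))
    (fun c => QuotientGroup.mk (Matrix.GeneralLinearGroup.det (P c))) ?_
  intro c c' h
  obtain ⟨Q, hQ, hQd⟩ := exists_commute_det_of_mem_HSub _ (QuotientGroup.eq.1 h)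
  apply Subtype.ext
  rw [← hg, ← hg, ConjClasses.mk_eq_mk_iff_isConj]
  refine isConj_SL_of_det (P c' * Q⁻¹ * (P c)⁻¹) 1 ?_ (by simp) ?_
  · have e1 : ((P c)⁻¹ : GL n F) * (g c : Matrix n n F) = g₀ * ((P c)⁻¹ : GL n F) := by
      rw [Units.inv_mul_eq_iff_eq_mul, ← mul_assoc, hP, Units.mul_inv_cancel_right]
    have e2 : (Q⁻¹ : GL n F) * (g₀ : Matrix n n F) = g₀ * (Q⁻¹ : GL n F) := by
      rw [Units.inv_mul_eq_iff_eq_mul, ← mul_assoc, hQ, Units.mul_inv_cancel_right]
    simp only [Units.val_mul, mul_assoc]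
    rw [e1, ← mul_assoc (Q⁻¹ : GL n F).1, e2, ← mul_assoc, ← mul_assoc, hP]
    simp only [mul_assoc]
  · simp only [map_mul, map_inv, hQd, map_one]
    group

/-- The sum of the squares of the indices. -/
noncomputable def sqS (F : Type*) [Field F] [Finite F] (M m : ℕ) : ℕ := ∑ u : UT F M m, gU u.1 ^ 2

/-- A family of classes whose sequences can be recoded injectively in weight `m`. -/
theorem card_mul_le_sqS [Finite F] (T : ConjClasses (Matrix.SpecialLinearGroup n F) → Prop)
    (M m : ℕ) (a : F) (ρ : (ℕ → F[X]) → ℕ → F[X]) (h1 : ∀ c, T c → IsU M m (ρ (clsU c)))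
    (h2 : ∀ c, T c → cstU M (ρ (clsU c)) = a) (h3 : ∀ c, T c → suppU (ρ (clsU c)) = suppU (clsU c))
    (h4 : ∀ c c', T c → T c' → ρ (clsU c) = ρ (clsU c') → clsU c = clsU c') :
    Nat.card {c // T c} * (Nat.card F - 1) ≤ sqS F M m := by
  classical
  refine le_trans (Nat.mul_le_mul_right _ ?_) (sum_gU_mul_le M m a)
  have := Fintype.ofFinite {c // T c}
  let φ : {c // T c} → UT F M m := fun c => ⟨ρ (clsU c.1), h1 _ c.2⟩
  rw [Nat.card_eq_fintype_card, ← card_univ, card_eq_sum_card_fiberwise (f := φ)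
    (t := univ.filter fun u : UT F M m => cstU M u.1 = a)
    (fun c _ => mem_coe.2 (mem_filter.2 ⟨mem_univ _, h2 _ c.2⟩))]
  refine sum_le_sum fun u _ => ?_
  rcases (univ.filter fun c => φ c = u).eq_empty_or_nonempty with h | ⟨c₀, hc₀⟩
  · rw [h]; simp
  obtain rfl := (mem_filter.1 hc₀).2
  have h5 : gU (φ c₀).1 = gU (clsU c₀.1) := by
    rw [gU, gU, ← h3 _ c₀.2]
  rw [h5]
  refine le_trans ?_ (card_clsU_fiber_le (n := n) _)
  rw [← Fintype.card_subtype, ← Nat.card_eq_fintype_card]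
  refine Nat.card_le_card_of_injective
    (fun c => ⟨c.1.1, h4 _ _ c.1.2 c₀.2 (congrArg Subtype.val c.2)⟩) ?_
  intro c c' h
  have h6 : c.1.1 = c'.1.1 := by simpa using h
  exact Subtype.ext (Subtype.ext h6)

theorem card_conjClasses_SL_mul_le [Finite F] {M : ℕ} (hM : Fintype.card n ≤ M) :
    Nat.card (ConjClasses (Matrix.SpecialLinearGroup n F)) * (Nat.card F - 1) ≤
      sqS F M (Fintype.card n) := by
  have := card_mul_le_sqS (n := n) (F := F) (fun _ => True) M (Fintype.card n)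
    ((-1) ^ Fintype.card n) id (fun c _ => isU_clsU c hM) (fun c _ => cstU_clsU c hM)
    (fun _ _ => rfl) (fun _ _ _ _ h => h)
  rwa [Nat.card_congr (Equiv.subtypeUnivEquiv fun _ => trivial)] at this

theorem IsModel.smul {A : Matrix n n F} {ι : Type*} {d : ι → F[X]} (h : IsModel A d) {z : F}
    (hz : z ≠ 0) : IsModel (z • A) fun i => (d i).scaleRoots z := by
  rw [isModel_iff] at h ⊢
  obtain ⟨e, he⟩ := h
  have h1 : ∀ f : F[X], eval₂ (Algebra.ofId F (AdjoinRoot f) : F →+* AdjoinRoot f)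
      (algebraMap F _ z * AdjoinRoot.root f) (f.scaleRoots z) = 0 := fun f =>
    scaleRoots_aeval_eq_zero (by simp)
  have h2 : ∀ f : F[X], eval₂ (Algebra.ofId F (AdjoinRoot (f.scaleRoots z)) :
        F →+* AdjoinRoot (f.scaleRoots z))
      (algebraMap F _ z⁻¹ * AdjoinRoot.root (f.scaleRoots z)) f = 0 := fun f => by
    have := scaleRoots_aeval_eq_zero (p := f.scaleRoots z) (r := z⁻¹)
      (a := AdjoinRoot.root (f.scaleRoots z)) (by simp)
    rwa [← scaleRoots_mul, mul_inv_cancel₀ hz, scaleRoots_one] at this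
  let ψ : ∀ f : F[X], AdjoinRoot f ≃ₐ[F] AdjoinRoot (f.scaleRoots z) := fun f =>
    AlgEquiv.ofAlgHom (AdjoinRoot.liftAlgHom _ _ _ (h2 f)) (AdjoinRoot.liftAlgHom _ _ _ (h1 f))
      (AdjoinRoot.algHom_ext (by
        simp only [AlgHom.comp_apply, AdjoinRoot.liftAlgHom_root, map_mul, AlgHom.commutes,
          AlgHom.id_apply]
        rw [← mul_assoc, ← map_mul, mul_inv_cancel₀ hz, map_one, one_mul]))
      (AdjoinRoot.algHom_ext (by
        simp only [AlgHom.comp_apply, AdjoinRoot.liftAlgHom_root, map_mul, AlgHom.commutes,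
          AlgHom.id_apply]
        rw [← mul_assoc, ← map_mul, inv_mul_cancel₀ hz, map_one, one_mul]))
  have hψ : ∀ f, ψ f (AdjoinRoot.root f) = algebraMap F _ z⁻¹ * AdjoinRoot.root (f.scaleRoots z) :=
    fun f => AdjoinRoot.liftAlgHom_root _ _ _ (h2 f)
  refine ⟨e.trans (LinearEquiv.piCongrRight fun i => (ψ (d i)).toLinearEquiv), fun v => ?_⟩
  funext i
  change ψ (d i) (e ((z • A).mulVec v) i) =
    AdjoinRoot.root ((d i).scaleRoots z) * ψ (d i) (e v i)
  rw [Matrix.smul_mulVec, map_smul, he, Pi.smul_apply, map_smul, Pi.mul_apply, map_mul, blkX, hψ,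
    Algebra.smul_def, ← mul_assoc, ← mul_assoc, ← map_mul, mul_inv_cancel₀ hz, map_one, one_mul]

theorem irreducible_scaleRoots {f : F[X]} (hf : Irreducible f) {z : F} (hz : z ≠ 0) :
    Irreducible (f.scaleRoots z) := by
  have hd : ∀ {g : F[X]} {w : F}, IsUnit (g.scaleRoots w) ↔ IsUnit g := by
    intro g w
    rw [isUnit_iff_degree_eq_zero, isUnit_iff_degree_eq_zero, degree_scaleRoots]
  refine ⟨fun h => hf.not_isUnit (hd.1 h), fun a b hab => ?_⟩
  have : f = a.scaleRoots z⁻¹ * b.scaleRoots z⁻¹ := by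
    rw [← mul_scaleRoots_of_noZeroDivisors, ← hab, ← scaleRoots_mul, mul_inv_cancel₀ hz,
      scaleRoots_one]
  exact (hf.isUnit_or_isUnit this).imp hd.1 hd.1

theorem typ_smul (A : Matrix n n F) {z : F} (hz : z ≠ 0) :
    typ (z • A) = (typ A).map fun x => (x.1.scaleRoots z, x.2) := by
  obtain ⟨k, t, ht, h⟩ := hasType_typ A
  have h1 := h.smul hz
  simp only [pow_scaleRoots_of_isReduced] at h1
  have h2 := IsModel.hasType (t := fun i => ((t i).1.scaleRoots z, (t i).2)) h1
  rw [← ht, Multiset.map_map]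
  refine h2.typ_eq ?_
  intro x hx
  obtain ⟨i, -, rfl⟩ := Multiset.mem_map.1 hx
  obtain ⟨a, b, c⟩ := (valid_typ A).monic_of_map_eq ht i
  exact ⟨(monic_scaleRoots_iff z).2 a, irreducible_scaleRoots b hz, c⟩

theorem phiU_map_scaleRoots (D : Multiset (F[X] × ℕ)) (z : F) (i : ℕ) :
    phiU (D.map fun x => (x.1.scaleRoots z, x.2)) i = (phiU D i).scaleRoots z := by
  induction D using Multiset.induction_on with
  | empty => simp [phiU_zero]
  | cons x D ih =>
    rw [Multiset.map_cons, phiU_cons, phiU_cons, ih, mul_scaleRoots_of_noZeroDivisors]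
    split_ifs <;> simp

theorem expand_contract_of_scaleRoots {f : F[X]} (h0 : f.coeff 0 ≠ 0) {z : F} (hz : 0 < orderOf z)
    (h : f.scaleRoots z = f) : expand F (orderOf z) (contract (orderOf z) f) = f := by
  have key : ∀ j, f.coeff j ≠ 0 → orderOf z ∣ f.natDegree - j := by
    intro j hj
    have := congrArg (fun g => coeff g j) h
    simp only [coeff_scaleRoots] at this
    exact orderOf_dvd_of_pow_eq_one (mul_left_cancel₀ hj (this.trans (mul_one _).symm))
  ext j
  rw [coeff_expand hz, coeff_contract hz.ne']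
  split_ifs with hj
  · rw [Nat.div_mul_cancel hj]
  · by_contra h1
    have h2 := key j (Ne.symm h1)
    have h3 := key 0 h0
    exact hj ((Nat.dvd_sub_iff_right (le_natDegree_of_ne_zero (Ne.symm h1)) h3).1 h2)

/-- The classes fixed by multiplication with a scalar of order `e`. -/
theorem card_fixed_mul_le [Finite F] (z : Matrix.SpecialLinearGroup n F) {r : F}
    (hr : (z : Matrix n n F) = Matrix.scalar n r) (hr0 : 0 < orderOf r) {M : ℕ}
    (hM : Fintype.card n ≤ M) :
    Nat.card {c : ConjClasses (Matrix.SpecialLinearGroup n F) //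
      ∃ g, ConjClasses.mk g = c ∧ IsConj (z * g) g} * (Nat.card F - 1) ≤
      sqS F M (Fintype.card n / orderOf r) := by
  have hr1 : r ≠ 0 := by
    rintro rfl
    simp at hr0
  have key : ∀ c : ConjClasses (Matrix.SpecialLinearGroup n F),
      (∃ g, ConjClasses.mk g = c ∧ IsConj (z * g) g) →
      ∀ i, expand F (orderOf r) (contract (orderOf r) (clsU c i)) = clsU c i := by
    rintro c ⟨g, rfl, hg⟩ i
    refine expand_contract_of_scaleRoots ((isU_clsU _ hM).2.1 i) hr0 ?_
    have h1 := typ_eq_of_isConj_SL hg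
    rw [Matrix.SpecialLinearGroup.coe_mul, hr, Matrix.scalar_apply, ← Matrix.smul_eq_diagonal_mul,
      typ_smul _ hr1] at h1
    rw [clsU_mk, ← phiU_map_scaleRoots, h1]
  have h0 : ∀ f : F[X], (contract (orderOf r) f).coeff 0 = f.coeff 0 := fun f => by
    rw [coeff_contract hr0.ne', zero_mul]
  have h1 : contract (orderOf r) (1 : F[X]) = 1 := by rw [← C_1, contract_C]
  refine card_mul_le_sqS _ M _ ((-1) ^ Fintype.card n) (fun u i => contract (orderOf r) (u i))
    (fun c hc => ⟨fun i => ?_, fun i => ?_, ?_, fun i hi => ?_, ?_⟩) (fun c _ => ?_)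
    (fun c hc => ?_) (fun c c' hc hc' h => ?_)
  · rw [← monic_expand_iff hr0, key c hc]
    exact (isU_clsU c hM).1 i
  · rw [h0]
    exact (isU_clsU c hM).2.1 i
  · dsimp only
    rw [(isU_clsU c hM).2.2.1, h1]
  · dsimp only
    rw [(isU_clsU c hM).2.2.2.1 i hi, h1]
  · symm
    apply Nat.div_eq_of_eq_mul_right hr0
    rw [← (isU_clsU c hM).2.2.2.2, mul_sum]
    refine sum_congr rfl fun i _ => ?_
    conv_lhs => rw [← key c hc i, natDegree_expand]
    ring
  · rw [← cstU_clsU c hM]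
    simp only [cstU, h0]
  · ext i
    simp only [suppU, Set.mem_ofPred_eq]
    refine not_congr ⟨fun h => ?_, fun h => by rw [h, h1]⟩
    rw [← key c hc, h, map_one]
  · funext i
    rw [← key c hc, ← key c' hc', congrFun h i]

end Cfsg.Agent.GLn
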