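import Cfsg.Agent.Lib.GLn.ClassCount
import Cfsg.Agent.Lib.GLn.Spec3

/-!
Numerical bounds for `sqS`, and the class number of a quotient by the centre.
-/

set_option autoImplicit false

namespace Cfsg.Agent.GLn

open Polynomial Finset

variable {F : Type*} [Field F]

theorem sqS_le [Finite F] (M : ℕ) {n : ℕ} (hn : 0 < n) :
    sqS F M n ≤ Nat.card (UT F M n) +
      ∑ d ∈ (Icc 2 n).filter (fun d => d ∣ n ∧ d ∣ Nat.card F - 1),
        (d ^ 2 - 1) * Nat.card (UT F M (n / d)) := sum_gU_sq_le M hn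

theorem sqS_one_le [Finite F] {M : ℕ} (hM : 2 ≤ M) : sqS F M 1 ≤ Nat.card F - 1 := by
  have h1 := sqS_le (F := F) M one_pos
  have h2 := card_UT_one_le (F := F) hM
  rw [Icc_eq_empty (by omega), filter_empty, sum_empty] at h1
  omega

theorem sqS_two_le [Finite F] {M : ℕ} (hM : 2 ≤ M) :
    sqS F M 2 ≤ (Nat.card F + 4) * (Nat.card F - 1) ∧
      2 * sqS F M 2 ≤ 5 * Nat.card F * (Nat.card F - 1) := by
  have h1 := sqS_le (F := F) M two_pos
  have h2 := card_UT_one_le (F := F) hM
  have h3 := card_UT_two_le (F := F) hM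
  have h4 : 1 < Nat.card F := Finite.one_lt_card
  rw [Icc_self, filter_singleton] at h1
  obtain ⟨q, hq⟩ : ∃ q, Nat.card F = q + 2 := ⟨Nat.card F - 2, by omega⟩
  rw [hq] at h1 h2 h3 ⊢
  rw [show q + 2 - 1 = q + 1 from rfl] at h1 ⊢
  split_ifs at h1 with h
  · rw [sum_singleton] at h1
    norm_num [-Nat.card_eq_fintype_card] at h1
    have : 1 ≤ q := by omega
    constructor <;> nlinarith
  · rw [sum_empty] at h1
    constructor <;> nlinarith

theorem sum_extra_le {q n : ℕ} (hq : 2 ≤ q) (hn : 0 < n) :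
    ∑ d ∈ (Icc 2 n).filter (fun d => d ∣ n ∧ d ∣ q - 1), (d ^ 2 - 1) * q ^ (n / d) ≤
      if q = 2 then 0 else q ^ (n / 2 + 2) := by
  obtain ⟨q, rfl⟩ : ∃ r, q = r + 2 := ⟨q - 2, by omega⟩
  rw [show q + 2 - 1 = q + 1 from rfl]
  have h1 : ∑ d ∈ (Icc 2 n).filter (fun d => d ∣ n ∧ d ∣ q + 1), (d ^ 2 - 1) * (q + 2) ^ (n / d) ≤
      q * (q + 2) * ∑ j ∈ range (n / 2 + 1), (q + 2) ^ j := by
    calc _ ≤ ∑ d ∈ (Icc 2 n).filter (fun d => d ∣ n ∧ d ∣ q + 1),
          q * (q + 2) * (q + 2) ^ (n / d) := by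
          refine sum_le_sum fun d hd => Nat.mul_le_mul_right _ ?_
          have := Nat.le_of_dvd (Nat.succ_pos q) (mem_filter.1 hd).2.2
          have h2 : d ^ 2 ≤ (q + 1) ^ 2 := Nat.pow_le_pow_left this 2
          have h3 : (q + 1) ^ 2 = q * (q + 2) + 1 := by ring
          omega
      _ ≤ _ := by
          rw [← mul_sum]
          refine Nat.mul_le_mul_left _ ?_
          rw [← sum_image (s := (Icc 2 n).filter (fun d => d ∣ n ∧ d ∣ q + 1))
            (g := fun d => n / d) (f := fun j => (q + 2) ^ j)]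
          · refine sum_le_sum_of_subset fun j hj => ?_
            obtain ⟨d, hd, rfl⟩ := mem_image.1 hj
            exact mem_range.2 (Nat.lt_succ_of_le
              (Nat.div_le_div_left (mem_Icc.1 (mem_filter.1 hd).1).1 two_pos))
          · intro d hd d' hd' h
            have h2 := (mem_filter.1 (mem_coe.1 hd)).2.1
            have h3 := (mem_filter.1 (mem_coe.1 hd')).2.1
            rw [← Nat.div_div_self h2 hn.ne', ← Nat.div_div_self h3 hn.ne']
            exact congrArg _ h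
  split_ifs with h
  · obtain rfl : q = 0 := by omega
    simpa using h1
  · refine h1.trans ?_
    have h2 := pred_mul_gs_add_one (q := q + 2) (by omega) (n / 2 + 1)
    rw [show q + 2 - 1 = q + 1 from rfl, gs] at h2
    rw [pow_succ' _ (n / 2 + 1), ← h2]
    nlinarith [Nat.zero_le ((q + 2) * ∑ j ∈ range (n / 2 + 1), (q + 2) ^ j)]

theorem sqS_le_of_three_le [Finite F] {M n : ℕ} (hn : 3 ≤ n) (hM : n ≤ M) :
    sqS F M n ≤ (Nat.card F ^ (n - 1) + 3 * Nat.card F ^ (n - 2)) * (Nat.card F - 1) := by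
  have h1 := sqS_le (F := F) M (n := n) (by omega)
  have h2 := card_UT_one_le (F := F) (M := M) (by omega)
  have h3 := card_UT_two_le (F := F) (M := M) (by omega)
  have h4 : 1 < Nat.card F := Finite.one_lt_card
  rcases hn.eq_or_lt with rfl | hn
  · have h5 := card_UT_three_le (F := F) hM
    obtain ⟨q, hq⟩ : ∃ q, Nat.card F = q + 2 := ⟨Nat.card F - 2, by omega⟩
    rw [hq] at h1 h2 h3 h5 ⊢
    rw [show q + 2 - 1 = q + 1 from rfl] at h1 ⊢
    rw [show Icc 2 3 = {2, 3} from rfl, sum_filter, sum_pair (by norm_num)] at h1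
    norm_num [-Nat.card_eq_fintype_card] at h1 ⊢
    split_ifs at h1 with h
    · have : 2 ≤ q := by omega
      nlinarith
    · nlinarith
  rcases (show 4 ≤ n from hn).eq_or_lt with rfl | hn
  · have h5 := card_UT_le (F := F) (M := M) (by omega) hM
    obtain ⟨q, hq⟩ : ∃ q, Nat.card F = q + 2 := ⟨Nat.card F - 2, by omega⟩
    rw [hq] at h1 h2 h3 h5 ⊢
    rw [show q + 2 - 1 = q + 1 from rfl] at h1 ⊢
    rw [show Icc 2 4 = {2, 3, 4} from rfl, sum_filter, sum_insert (by norm_num),
      sum_pair (by norm_num)] at h1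
    norm_num [-Nat.card_eq_fintype_card] at h1 ⊢
    split_ifs at h1 with h h'
    · have : 3 ≤ q := by omega
      nlinarith [Nat.zero_le (q ^ 3)]
    · have : 1 ≤ q := by omega
      nlinarith [Nat.zero_le (q ^ 3)]
    · omega
    · nlinarith [Nat.zero_le (q ^ 3)]
  · have h5 := card_UT_le (F := F) (M := M) (by omega) hM
    have h6 := sum_extra_le (q := Nat.card F) h4 (n := n) (by omega)
    have h7 : ∑ d ∈ (Icc 2 n).filter (fun d => d ∣ n ∧ d ∣ Nat.card F - 1),
        (d ^ 2 - 1) * Nat.card (UT F M (n / d)) ≤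
        ∑ d ∈ (Icc 2 n).filter (fun d => d ∣ n ∧ d ∣ Nat.card F - 1),
        (d ^ 2 - 1) * Nat.card F ^ (n / d) :=
      sum_le_sum fun d _ => Nat.mul_le_mul_left _
        (card_UT_le (by omega) ((Nat.div_le_self _ _).trans hM))
    obtain ⟨q, hq⟩ : ∃ q, Nat.card F = q + 2 := ⟨Nat.card F - 2, by omega⟩
    obtain ⟨k, rfl⟩ : ∃ k, n = k + 2 := ⟨n - 2, by omega⟩
    have h8 : Nat.card F ^ ((k + 2) / 2 + 2) ≤ Nat.card F ^ (k + 1) :=
      Nat.pow_le_pow_right h4.le (by omega)
    rw [show k + 2 - 1 = k + 1 from rfl, show k + 2 - 2 = k from rfl]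
    have h9 := h1.trans (add_le_add h5 (h7.trans h6))
    rw [hq] at h8 h9 ⊢
    rw [show q + 2 - 1 = q + 1 from rfl]
    rw [pow_succ (q + 2) k] at h8 ⊢
    rw [pow_add (q + 2) k 2] at h9
    generalize (q + 2) ^ k = y at h8 h9 ⊢
    split_ifs at h9 with h
    · obtain rfl : q = 0 := by omega
      omega
    · obtain ⟨q, rfl⟩ : ∃ r, q = r + 1 := ⟨q - 1, by omega⟩
      nlinarith [Nat.zero_le (q * y)]

theorem two_mul_sqS_le [Finite F] {M n : ℕ} (hn : 1 ≤ n) (hM : n ≤ M) (hM' : 2 ≤ M) :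
    2 * sqS F M n ≤ 5 * Nat.card F ^ (n - 1) * (Nat.card F - 1) := by
  rcases hn.eq_or_lt with rfl | hn
  · have := sqS_one_le (F := F) hM'
    simp only [Nat.sub_self, pow_zero]
    omega
  rcases (show 2 ≤ n from hn).eq_or_lt with rfl | hn
  · simpa using (sqS_two_le (F := F) hM').2
  have h4 : 1 < Nat.card F := Finite.one_lt_card
  refine (Nat.mul_le_mul_left 2 (sqS_le_of_three_le hn hM)).trans ?_
  rw [← mul_assoc]
  refine Nat.mul_le_mul_right _ ?_
  obtain ⟨k, rfl⟩ : ∃ k, n = k + 2 := ⟨n - 2, by omega⟩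
  rw [show k + 2 - 1 = k + 1 from rfl, show k + 2 - 2 = k from rfl, pow_succ]
  nlinarith [Nat.zero_le (Nat.card F ^ k)]

/-- Multiplication by central elements permutes the conjugacy classes. -/
@[reducible] def centerAct (G : Type*) [Group G] : MulAction (Subgroup.center G) (ConjClasses G) where
  smul z c := Quotient.map' (s₁ := IsConj.setoid G) (s₂ := IsConj.setoid G) (fun g => z.1 * g)
    (fun g h hgh => by
      obtain ⟨x, rfl⟩ := isConj_iff.1 hgh
      refine isConj_iff.2 ⟨x, ?_⟩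
      rw [← mul_assoc, Subgroup.mem_center_iff.1 z.2 x]
      simp only [mul_assoc]) c
  one_smul c := by
    obtain ⟨g, rfl⟩ := ConjClasses.exists_rep c
    exact congrArg ConjClasses.mk (one_mul g)
  mul_smul y z c := by
    obtain ⟨g, rfl⟩ := ConjClasses.exists_rep c
    exact congrArg ConjClasses.mk (mul_assoc y.1 z.1 g)

theorem card_conjClasses_quotient_center (G : Type*) [Group G] [Finite G]
    [Fintype (Subgroup.center G)] :
    Nat.card (Subgroup.center G) * Nat.card (ConjClasses (G ⧸ Subgroup.center G)) =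
      ∑ z : Subgroup.center G,
        Nat.card {c : ConjClasses G // ∃ g, ConjClasses.mk g = c ∧ IsConj (z.1 * g) g} := by
  classical
  let _ := centerAct G
  have hs : ∀ (z : Subgroup.center G) (g : G), z • ConjClasses.mk g = ConjClasses.mk (z.1 * g) :=
    fun _ _ => rfl
  have := fun z : Subgroup.center G => Fintype.ofFinite (MulAction.fixedBy (ConjClasses G) z)
  have := Fintype.ofFinite (Quotient (MulAction.orbitRel (Subgroup.center G) (ConjClasses G)))
  have h := MulAction.sum_card_fixedBy_eq_card_orbits_mul_card_group (Subgroup.center G)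
    (ConjClasses G)
  simp only [← Nat.card_eq_fintype_card] at h
  have h1 : Nat.card (Quotient (MulAction.orbitRel (Subgroup.center G) (ConjClasses G))) =
      Nat.card (ConjClasses (G ⧸ Subgroup.center G)) := by
    refine Nat.card_eq_of_bijective (Quotient.lift
      (ConjClasses.map (QuotientGroup.mk' (Subgroup.center G))) ?_) ⟨?_, ?_⟩
    · rintro c c' ⟨z, rfl⟩
      obtain ⟨g, rfl⟩ := ConjClasses.exists_rep c'
      change ConjClasses.mk (QuotientGroup.mk' _ (z.1 * g)) = ConjClasses.mk (QuotientGroup.mk' _ g)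
      rw [map_mul, QuotientGroup.mk'_apply, (QuotientGroup.eq_one_iff _).2 z.2, one_mul]
    · rintro ⟨c⟩ ⟨c'⟩ hc
      obtain ⟨g, rfl⟩ := ConjClasses.exists_rep c
      obtain ⟨g', rfl⟩ := ConjClasses.exists_rep c'
      have h2 : IsConj (QuotientGroup.mk g' : G ⧸ Subgroup.center G) (QuotientGroup.mk g) :=
        ConjClasses.mk_eq_mk_iff_isConj.1 hc.symm
      obtain ⟨x, hx⟩ := isConj_iff.1 h2
      obtain ⟨x, rfl⟩ := QuotientGroup.mk_surjective x
      rw [← QuotientGroup.mk_inv, ← QuotientGroup.mk_mul, ← QuotientGroup.mk_mul,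
        QuotientGroup.eq] at hx
      refine Quotient.sound ⟨⟨_, hx⟩, ?_⟩
      change ConjClasses.mk (_ * g') = _
      rw [ConjClasses.mk_eq_mk_iff_isConj, isConj_iff]
      refine ⟨x, ?_⟩
      rw [← mul_assoc, Subgroup.mem_center_iff.1 hx x, mul_assoc, mul_assoc, ← mul_assoc x,
        ← Subgroup.mem_center_iff.1 hx]
      group
    · intro c
      obtain ⟨g, rfl⟩ := ConjClasses.exists_rep c
      obtain ⟨g, rfl⟩ := QuotientGroup.mk_surjective g
      exact ⟨Quotient.mk _ (ConjClasses.mk g), rfl⟩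
  rw [mul_comm, ← h1, ← h]
  refine sum_congr rfl fun z _ => Nat.card_congr (Equiv.subtypeEquivRight fun c => ?_)
  obtain ⟨g, rfl⟩ := ConjClasses.exists_rep c
  rw [MulAction.mem_fixedBy]
  constructor
  · intro h2
    exact ⟨g, rfl, ConjClasses.mk_eq_mk_iff_isConj.1 h2⟩
  · rintro ⟨g', h2, h3⟩
    rw [← h2, hs, ConjClasses.mk_eq_mk_iff_isConj]
    exact h3

theorem card_center_SL [Finite F] {n : Type*} [Fintype n] [DecidableEq n] [Nonempty n] :
    Nat.card (Subgroup.center (Matrix.SpecialLinearGroup n F)) =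
      Nat.gcd (Fintype.card n) (Nat.card F - 1) := by
  obtain ⟨i⟩ : Nonempty n := inferInstance
  rw [Nat.card_congr (Matrix.SpecialLinearGroup.center_equiv_rootsOfUnity' i).toEquiv,
    ← Nat.card_units, Nat.gcd_comm, ← IsCyclic.card_powMonoidHom_ker]
  rfl

end Cfsg.Agent.GLn
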