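import Cfsg.Agent.Lib.GLn.Wr2
import Cfsg.Agent.Lib.GLn.ClassBounds
import Cfsg.Prelude.Def_HallClasses

/-!
Pronormality of overgroups of Sylow subgroups; overgroups of the unitriangular group in `SL n`;
Sylow `2`-subgroups of `SL (2 ^ k)` in odd characteristic.
-/

set_option autoImplicit false

namespace Cfsg.Agent.GLn

open Matrix

section general

variable {G : Type*} [Group G]

theorem map_conj_mul (H : Subgroup G) (a b : G) : H.map (MulAut.conj (a * b)).toMonoidHom =
    (H.map (MulAut.conj b).toMonoidHom).map (MulAut.conj a).toMonoidHom := by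
  rw [Subgroup.map_map, map_mul]
  rfl

theorem map_conj_le_of_mem {H L : Subgroup G} (h : H ≤ L) {a : G} (ha : a ∈ L) :
    H.map (MulAut.conj a).toMonoidHom ≤ L := by
  rintro _ ⟨x, hx, rfl⟩
  exact mul_mem (mul_mem ha (h hx)) (inv_mem ha)

theorem map_conj_eq_of_mem_normalizer {H : Subgroup G} {a : G}
    (ha : a ∈ Subgroup.normalizer (H : Set G)) : H.map (MulAut.conj a).toMonoidHom = H := by
  ext y
  rw [Subgroup.mem_map_equiv, MulAut.conj_symm_apply]
  exact (Subgroup.mem_normalizer_iff''.1 ha y).symm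

/-- It suffices to test pronormality on the normaliser of a Sylow subgroup. -/
theorem pronormal_of_normalizer [Finite G] {p : ℕ} [Fact p.Prime] (S : Sylow p G)
    {H : Subgroup G} (hS : (S : Subgroup G) ≤ H)
    (h : ∀ g ∈ Subgroup.normalizer ((S : Subgroup G) : Set G),
      ∃ x ∈ H ⊔ H.map (MulAut.conj g).toMonoidHom,
        H.map (MulAut.conj g).toMonoidHom = H.map (MulAut.conj x).toMonoidHom) :
    Cfsg.IsPronormal H := by
  intro g
  obtain ⟨d, hd, h1⟩ := Alt.exists_conj_le_sylow S (D := H ⊔ H.map (MulAut.conj g).toMonoidHom)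
    (Q := (S : Subgroup G).map (MulAut.conj g).toMonoidHom) (hS.trans le_sup_left)
    ((Subgroup.map_mono hS).trans le_sup_right) (S.isPGroup'.map _)
  obtain ⟨x, hx, h2⟩ := h (d * g) (Subgroup.mem_normalizer_fintype fun x hx => by
    have := h1 _ ⟨x, hx, rfl⟩
    simpa only [MulEquiv.coe_toMonoidHom, MulAut.conj_apply, mul_assoc, _root_.mul_inv_rev,
      SetLike.mem_coe] using this)
  have h3 : H ⊔ H.map (MulAut.conj (d * g)).toMonoidHom ≤ H ⊔ H.map (MulAut.conj g).toMonoidHom := by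
    refine sup_le le_sup_left ?_
    rw [map_conj_mul]
    exact map_conj_le_of_mem le_sup_right hd
  refine ⟨d⁻¹ * x, mul_mem (inv_mem hd) (h3 hx), ?_⟩
  rw [map_conj_mul, ← h2, ← map_conj_mul, inv_mul_cancel_left]

theorem pronormal_of_normalizer_le [Finite G] {p : ℕ} [Fact p.Prime] (S : Sylow p G)
    {H : Subgroup G} (hS : (S : Subgroup G) ≤ H)
    (h : Subgroup.normalizer ((S : Subgroup G) : Set G) ≤ Subgroup.normalizer (H : Set G)) :
    Cfsg.IsPronormal H :=
  pronormal_of_normalizer S hS fun _ hg => ⟨1, one_mem _, by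
    rw [map_conj_eq_of_mem_normalizer (h hg), map_conj_eq_of_mem_normalizer (one_mem _)]⟩

theorem pronormal_of_comap {G' : Type*} [Group G'] (π : G →* G') (hπ : Function.Surjective π)
    {H : Subgroup G'} (h : Cfsg.IsPronormal (H.comap π)) : Cfsg.IsPronormal H := by
  have key : ∀ y : G, ((H.comap π).map (MulAut.conj y).toMonoidHom).map π =
      H.map (MulAut.conj (π y)).toMonoidHom := by
    intro y
    conv_rhs => rw [← Subgroup.map_comap_eq_self_of_surjective hπ H]
    rw [Subgroup.map_map, Subgroup.map_map]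
    congr 1
    ext z
    simp
  intro g
  obtain ⟨g, rfl⟩ := hπ g
  obtain ⟨x, hx, h1⟩ := h g
  refine ⟨π x, ?_, by rw [← key, h1, key]⟩
  have := Subgroup.mem_map_of_mem π hx
  rwa [Subgroup.map_sup, key, Subgroup.map_comap_eq_self_of_surjective hπ] at this

theorem rel_perm {ι : Type*} [Finite ι] (R : ι → ι → Prop) (σ : Equiv.Perm ι)
    (htot : ∀ i j, R i j ∨ R j i) (htr : ∀ i j k, R i j → R j k → R i k)
    (hσ : ∀ i j, R i j → R (σ i) (σ j)) (i : ι) : R i (σ i) ∧ R (σ i) i := by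
  have key : ∀ R : ι → ι → Prop, (∀ i j k, R i j → R j k → R i k) →
      (∀ i j, R i j → R (σ i) (σ j)) → R i (σ i) → R (σ i) i := by
    intro R htr hσ h
    have h1 : ∀ k : ℕ, R i ((σ ^ (k + 1)) i) := by
      intro k
      induction k with
      | zero => simpa using h
      | succ k ih => rw [pow_succ', Equiv.Perm.mul_apply]; exact htr _ _ _ h (hσ _ _ ih)
    have h2 := hσ _ _ (h1 (2 * orderOf σ - 2))
    have h3 := orderOf_pos σ
    rwa [← Equiv.Perm.mul_apply σ (σ ^ _), ← pow_succ',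
      show 2 * orderOf σ - 2 + 1 + 1 = orderOf σ * 2 by omega, pow_mul, pow_orderOf_eq_one,
      one_pow, Equiv.Perm.one_apply] at h2
  rcases htot i (σ i) with h | h
  · exact ⟨h, key R htr hσ h⟩
  · exact ⟨key (fun i j => R j i) (fun i j k a b => htr _ _ _ b a) (fun i j => hσ j i) h, h⟩

end general

variable {F : Type*} [Field F] {n : ℕ}

/-- The upper unitriangular subgroup of `SL n F`. -/
def uSL (F : Type*) [Field F] (n : ℕ) : Subgroup (SpecialLinearGroup (Fin n) F) where
  carrier := {u | (∀ i j : Fin n, j < i → u.1 i j = 0) ∧ ∀ i, u.1 i i = 1}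
  one_mem' := ⟨fun _ _ h => one_apply_ne h.ne', fun i => one_apply_eq i⟩
  mul_mem' ha hb := unitri_mul ha.1 ha.2 hb.1 hb.2
  inv_mem' := by
    intro u hu
    have h1 := mem_upperTriangularGL.1 (inv_mem
      ((mem_upperTriangularGL (g := SpecialLinearGroup.toGL u)).2 hu.1))
    rw [← map_inv] at h1
    refine ⟨h1, fun i => ?_⟩
    have h2 : ((u⁻¹).1 * u.1) i i = 1 := by rw [SLn.coe_inv_mul]; exact one_apply_eq i
    rw [mul_apply, Finset.sum_eq_single i, hu.2, mul_one] at h2
    · exact h2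
    · intro l _ hl
      rcases lt_or_gt_of_ne hl with hl | hl
      · exact mul_eq_zero_of_left (h1 i l hl) _
      · exact mul_eq_zero_of_right _ (hu.1 l i hl)
    · simp

theorem mem_uSL {u : SpecialLinearGroup (Fin n) F} :
    u ∈ uSL F n ↔ (∀ i j : Fin n, j < i → u.1 i j = 0) ∧ ∀ i, u.1 i i = 1 := Iff.rfl

theorem card_uSL : Nat.card (uSL F n) = Nat.card F ^ n.choose 2 := by
  have h : Nat.card (uSL F n) = Nat.card ({x : Fin n × Fin n // x.1 < x.2} → F) := by
    refine Nat.card_eq_of_bijective (fun u x => u.1.1 x.1.1 x.1.2) ⟨fun u v h => ?_, fun f => ?_⟩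
    · apply Subtype.ext
      apply Subtype.ext
      ext i j
      rcases lt_trichotomy i j with h1 | rfl | h1
      · exact congrFun h ⟨(i, j), h1⟩
      · rw [u.2.2, v.2.2]
      · rw [u.2.1 i j h1, v.2.1 i j h1]
    · let A : Matrix (Fin n) (Fin n) F := of fun i j =>
        if h : i < j then f ⟨(i, j), h⟩ else if i = j then 1 else 0
      have h1 : ∀ i j : Fin n, j < i → A i j = 0 := fun i j h => by
        simp [A, h.ne', h.not_gt]
      have h2 : ∀ i, A i i = 1 := fun i => by simp [A]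
      exact ⟨⟨⟨A, SLn.det_of_unitriangular h1 h2⟩, h1, h2⟩, funext fun x => by simp [A, x.2]⟩
  rw [h, Nat.card_fun, Nat.card_eq_fintype_card (α := {x : Fin n × Fin n // x.1 < x.2}),
    Fintype.card_subtype, Fintype.card_product_filter_lt, Fintype.card_fin]

theorem exists_sylow_eq_uSL [Finite F] (p : ℕ) [Fact p.Prime] [CharP F p] (n : ℕ) :
    ∃ S : Sylow p (SpecialLinearGroup (Fin (n + 1)) F),
      (S : Subgroup (SpecialLinearGroup (Fin (n + 1)) F)) = uSL F (n + 1) := by
  have := Fintype.ofFinite F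
  obtain ⟨k, -, hk⟩ := FiniteField.card F p
  rw [← Nat.card_eq_fintype_card] at hk
  refine ⟨(IsPGroup.of_card (G := uSL F (n + 1)) (n := k * (n + 1).choose 2)
    (by rw [card_uSL, hk, pow_mul])).toSylow ?_, rfl⟩
  have h1 := (uSL F (n + 1)).card_mul_index
  rw [card_uSL, card_SL_eq] at h1
  rw [Nat.eq_of_mul_eq_mul_left (pow_pos Nat.card_pos _) h1,
    ← Nat.Prime.coprime_iff_not_dvd Fact.out]
  exact Nat.Coprime.prod_right fun i _ => (coprime_card_pow_sub_one p (by omega)).symm

theorem bruhat_SL (g : SpecialLinearGroup (Fin n) F) :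
    ∃ u ∈ uSL F n, ∃ v ∈ uSL F n, ∃ (m : SpecialLinearGroup (Fin n) F) (σ : Equiv.Perm (Fin n))
      (e : Fin n → F), m.1 = SLn.monoMat σ e ∧ g = u * m * v := by
  obtain ⟨u, b, σ, hu, hu1, hb, h⟩ := bruhat (SpecialLinearGroup.toGL g)
  rw [mem_upperTriangularGL] at hu hb
  have hb0 : ∀ i, b.1 i i ≠ 0 := by
    have := GeneralLinearGroup.det_ne_zero b
    rw [det_of_isUpperTriangular fun i j h => hb i j h] at this
    exact fun i => Finset.prod_ne_zero_iff.1 this i (Finset.mem_univ i)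
  let V : Matrix (Fin n) (Fin n) F := diagonal (fun i => (b.1 i i)⁻¹) * b.1
  have h1 : ∀ i j : Fin n, j < i → V i j = 0 := fun i j h => by simp [V, hb i j h]
  have h2 : ∀ i, V i i = 1 := fun i => by simp [V, hb0 i]
  let u' : SpecialLinearGroup (Fin n) F := ⟨u.1, SLn.det_of_unitriangular hu hu1⟩
  let v' : SpecialLinearGroup (Fin n) F := ⟨V, SLn.det_of_unitriangular h1 h2⟩
  have h3 : g.1 = u.1 * SLn.monoMat σ (fun i => b.1 i i) * V := by
    have h4 : SLn.monoMat σ (fun i => b.1 i i) * diagonal (fun i => (b.1 i i)⁻¹) =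
        SLn.monoMat σ 1 := by
      rw [← SLn.monoMat_one, SLn.monoMat_mul_monoMat, mul_one]
      congr 1
      funext i
      exact mul_inv_cancel₀ (hb0 i)
    rw [mul_assoc, ← mul_assoc (SLn.monoMat _ _), h4, ← mul_assoc]
    exact congrArg Units.val h
  have h4 : (SLn.monoMat σ fun i => b.1 i i).det = 1 := by
    have := g.2
    rwa [h3, det_mul, det_mul, u'.2, v'.2, one_mul, mul_one] at this
  exact ⟨u', ⟨hu, hu1⟩, v', ⟨h1, h2⟩, ⟨_, h4⟩, σ, _, rfl, Subtype.ext h3⟩

theorem transvection_mem_uSL {i j : Fin n} (h : i < j) (t : F) :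
    SpecialLinearGroup.transvection h.ne t ∈ uSL F n := by
  refine ⟨fun a b hab => ?_, fun a => ?_⟩
  · rw [SpecialLinearGroup.transvection_coe, Matrix.add_apply, one_apply_ne hab.ne',
      single_apply_of_ne, add_zero]
    rintro ⟨rfl, rfl⟩
    exact h.not_gt hab
  · rw [SpecialLinearGroup.transvection_coe, Matrix.add_apply, one_apply_eq, single_apply_of_ne,
      add_zero]
    rintro ⟨rfl, rfl⟩
    exact h.ne rfl

theorem conj_mem_uSL {t u : SpecialLinearGroup (Fin n) F} {d : Fin n → F}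
    (ht : t.1 = SLn.monoMat 1 d) (hu : u ∈ uSL F n) : t * u * t⁻¹ ∈ uSL F n := by
  have h := SLn.coe_conj_monoMat_apply ht u
  simp only [Equiv.Perm.one_apply] at h
  exact ⟨fun i j hij => by rw [h, hu.1 i j hij]; simp,
    fun i => by rw [h, hu.2 i, mul_one, mul_inv_cancel₀ (SLn.ne_zero_of_monoMat ht i)]⟩

/-- An overgroup of the unitriangular group is normalised by the diagonal matrices. -/
theorem conj_mem_of_uSL_le {H : Subgroup (SpecialLinearGroup (Fin n) F)} (hH : uSL F n ≤ H)
    {t : SpecialLinearGroup (Fin n) F} {d : Fin n → F} (ht : t.1 = SLn.monoMat 1 d)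
    {g : SpecialLinearGroup (Fin n) F} (hg : g ∈ H) : t * g * t⁻¹ ∈ H := by
  obtain ⟨u, hu, v, hv, m, σ, e, hm, rfl⟩ := bruhat_SL g
  have hmH : m ∈ H := (mul_mem_cancel_left (hH hu)).1 ((mul_mem_cancel_right (hH hv)).1 hg)
  rw [← conj_mul, ← conj_mul]
  refine mul_mem (mul_mem (hH (conj_mem_uSL ht hu)) ?_) (hH (conj_mem_uSL ht hv))
  have hR := rel_perm (fun i j => i = j ∨ SLn.HasRoot H i j) σ (fun i j => by
      rcases lt_trichotomy i j with h | h | h
      · exact Or.inl (Or.inr fun s => (SLn.hasTv_single_iff h.ne s).2 (hH (transvection_mem_uSL h s)))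
      · exact Or.inl (Or.inl h)
      · exact Or.inr (Or.inr fun s => (SLn.hasTv_single_iff h.ne s).2 (hH (transvection_mem_uSL h s))))
    (by
      rintro i j k (rfl | h1) h2
      · exact h2
      rcases h2 with rfl | h2
      · exact Or.inr h1
      rcases eq_or_ne i k with h | h
      · exact Or.inl h
      · exact Or.inr (h1.trans h h2))
    (by
      rintro i j (rfl | h1)
      · exact Or.inl rfl
      refine Or.inr fun s => ?_
      obtain ⟨y, hy, h2⟩ := h1 ((e i)⁻¹ * s * e j)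
      refine ⟨_, mul_mem (mul_mem hmH hy) (inv_mem hmH), ?_⟩
      rw [SLn.coe_conj_monoMat hm h2]
      have h3 := SLn.ne_zero_of_monoMat hm i
      have h4 := SLn.ne_zero_of_monoMat hm j
      congr 3
      field_simp)
  have hd := SLn.ne_zero_of_monoMat ht
  let x : Fin n → Fˣ := fun i => Units.mk0 _ (hd i)
  have h1 : (∏ i, Pi.mulSingle (σ i) (x (σ i)) * Pi.mulSingle i (x (σ i))⁻¹ : Fin n → Fˣ) ∈
      (H.map SpecialLinearGroup.toGL).comap (diagGL F (Fin n)) := by
    refine prod_mem fun i _ => ?_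
    rcases eq_or_ne (σ i) i with h | h
    · rw [h, ← Pi.mulSingle_mul, mul_inv_cancel, Pi.mulSingle_one]
      exact one_mem _
    · have a1 := fun s => (SLn.hasTv_single_iff h s).1 (((hR i).2.resolve_left h) s)
      have a2 := fun s => (SLn.hasTv_single_iff h.symm s).1 (((hR i).1.resolve_left h.symm) s)
      refine ⟨SpecialLinearGroup.diag2n h _ (hd (σ i)), ?_, Units.ext ?_⟩
      · rw [SLn.diag2n_eq]
        exact mul_mem (mul_mem (mul_mem (a1 _) (a2 _)) (a1 _))
          (mul_mem (mul_mem (a1 _) (a2 _)) (a1 _))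
      · rw [coe_diagGL]
        change diagonal _ = _
        congr 1
        funext k
        simp only [Pi.mul_apply, Pi.mulSingle_apply]
        split_ifs with h1 h2
        · exact absurd (h1.symm.trans h2) h
        · simp [x]
        · simp [x]
        · simp
  rw [Finset.prod_mul_distrib, Equiv.prod_comp σ (fun i => (Pi.mulSingle i (x i) : Fin n → Fˣ)),
    Finset.univ_prod_mulSingle, Finset.univ_prod_mulSingle] at h1
  obtain ⟨y, hy, h2⟩ := h1
  have h3 : t * m * t⁻¹ = m * y⁻¹ := by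
    rw [eq_mul_inv_iff_mul_eq]
    apply Subtype.ext
    have h4 : y.1 = _ := congrArg Units.val h2
    change t.1 * m.1 * (t⁻¹).1 * y.1 = m.1
    rw [SLn.coe_inv_of_monoMat ht, ht, hm, h4, coe_diagGL, ← SLn.monoMat_one]
    simp only [SLn.monoMat_mul_monoMat, inv_one, mul_one, one_mul]
    congr 1
    funext k
    have := hd k
    have := hd (σ k)
    simp [x]
    field_simp
  rw [h3]
  exact mul_mem hmH (inv_mem hy)

theorem normalizer_uSL_le [Finite F] {H : Subgroup (SpecialLinearGroup (Fin n) F)}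
    (hH : uSL F n ≤ H) :
    Subgroup.normalizer (uSL F n : Set (SpecialLinearGroup (Fin n) F)) ≤
      Subgroup.normalizer (H : Set (SpecialLinearGroup (Fin n) F)) := by
  intro g hg
  obtain ⟨u, hu, v, hv, m, σ, e, hm, rfl⟩ := bruhat_SL g
  have hmN := (mul_mem_cancel_left (Subgroup.le_normalizer hu)).1
    ((mul_mem_cancel_right (Subgroup.le_normalizer hv)).1 hg)
  have hσ : StrictMono σ := by
    intro i j hij
    have h1 := (Subgroup.mem_normalizer_iff.1 hmN _).1 (transvection_mem_uSL hij (1 : F))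
    by_contra h
    have h2 := h1.1 (σ i) (σ j) (lt_of_le_of_ne (not_lt.1 h) (σ.injective.ne hij.ne'))
    rw [SLn.coe_conj_monoMat_apply hm, SpecialLinearGroup.transvection_coe] at h2
    simp [hij.ne, SLn.ne_zero_of_monoMat hm] at h2
  obtain rfl : σ = 1 := Equiv.ext fun i => le_antisymm hσ.apply_le hσ.le_apply
  exact mul_mem (mul_mem (Subgroup.le_normalizer (hH hu))
    (Subgroup.mem_normalizer_fintype fun y hy => conj_mem_of_uSL_le hH hm hy))
    (Subgroup.le_normalizer (hH hv))

theorem pronormal_conj {G : Type*} [Group G] {H : Subgroup G} (a : G)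
    (h : Cfsg.IsPronormal (H.comap (MulAut.conj a).toMonoidHom)) : Cfsg.IsPronormal H :=
  pronormal_of_comap _ (MulAut.conj a).surjective h

/-- Subgroups of `SL n F` of index prime to the characteristic are pronormal. -/
theorem pronormal_SL_char [Finite F] (p : ℕ) [Fact p.Prime] [CharP F p]
    {H : Subgroup (SpecialLinearGroup (Fin (n + 1)) F)} (hH : ¬ p ∣ H.index) :
    Cfsg.IsPronormal H := by
  obtain ⟨S, hS⟩ := exists_sylow_eq_uSL (F := F) p n
  obtain ⟨S', hS'⟩ := Alt.exists_sylow_le_of_not_dvd_index hH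
  obtain ⟨a, -, ha⟩ := Alt.exists_conj_le_sylow S' (D := ⊤) le_top le_top S.isPGroup'
  refine pronormal_conj a (pronormal_of_normalizer_le S (fun x hx => hS' (ha x hx)) ?_)
  rw [hS]
  exact normalizer_uSL_le fun x hx => hS' (ha x (hS ▸ hx))

theorem good_sylow_two [Finite F] (ho : Odd (Nat.card F))
    (hC : ∀ P : Sylow 2 (SpecialLinearGroup (Fin 2) F),
      Subgroup.centralizer ((P : Subgroup (SpecialLinearGroup (Fin 2) F)) :
        Set (SpecialLinearGroup (Fin 2) F)) = Subgroup.center (SpecialLinearGroup (Fin 2) F)) :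
    ∃ S : Sylow 2 (GL (Fin 2) F), Good (S : Subgroup (GL (Fin 2) F)) := by
  have h2 := two_ne_zero_of_odd ho
  obtain ⟨P⟩ : Nonempty (Sylow 2 (SpecialLinearGroup (Fin 2) F)) := inferInstance
  obtain ⟨S, hS⟩ := P.exists_comap_eq_of_injective SpecialLinearGroup.toGL_injective
  have h8 : 2 ^ 3 ∣ Nat.card (SpecialLinearGroup (Fin 2) F) := by
    rw [SL2.card_SL2]
    exact (Nat.eight_dvd_sq_sub_one_of_odd ho).mul_left _
  refine ⟨S, good_of_fin_two h2 S.isPGroup' ?_ ?_ ?_⟩
  · exact SL2.mem_sylow_of_mem_normalizer (k := 1) S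
      (Subgroup.center_le_normalizer _ (Subgroup.mem_center_iff.2 fun g => by simp)) (by simp)
  · by_contra h
    push Not at h
    have h1 : (P : Subgroup (SpecialLinearGroup (Fin 2) F)) ≤ Subgroup.center _ := by
      rw [← hC P]
      intro x hx y hy
      rw [SetLike.mem_coe, ← hS] at hy
      rw [← hS] at hx
      exact SpecialLinearGroup.toGL_injective (by
        rw [map_mul, map_mul]; exact h _ hy _ hx y.2 x.2)
    have h3 := (P.pow_dvd_card_of_pow_dvd_card h8).trans (Subgroup.card_dvd_of_le h1)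
    rw [SL2.card_center_SL_odd h2] at h3
    omega
  · have h1 : 2 ^ 3 ∣ (Subgroup.center (GL (Fin 2) F)).index := by
      have h3 := (Subgroup.center (GL (Fin 2) F)).card_mul_index
      rw [card_GL_eq_card_SL_mul, GeneralLinearGroup.center_eq_range_scalar,
        ← Nat.card_congr (MonoidHom.ofInjective (f := GeneralLinearGroup.scalar (Fin 2))
          (Units.map_injective fun _ _ h => scalar_inj.1 h)).toEquiv,
        Nat.card_units, mul_comm] at h3
      rw [GeneralLinearGroup.center_eq_range_scalar,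
        Nat.eq_of_mul_eq_mul_right (Nat.sub_pos_of_lt Finite.one_lt_card) h3]
      exact h8
    have h3 := h1.trans (Subgroup.index_dvd_of_le
      (inf_le_left (a := Subgroup.center (GL (Fin 2) F)) (b := (S : Subgroup (GL (Fin 2) F)))))
    rw [← Subgroup.relIndex_mul_index inf_le_right, Subgroup.inf_relIndex_right] at h3
    have h4 := (Nat.Coprime.pow_left 3 ((Nat.Prime.coprime_iff_not_dvd Nat.prime_two).2
      S.not_dvd_index)).dvd_of_dvd_mul_right h3
    have h5 := Nat.le_of_dvd (Nat.pos_of_ne_zero Subgroup.index_ne_zero_of_finite) h4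
    exact lt_of_lt_of_le (by norm_num) h5

theorem v2_card_GL_sum [Finite F] (ho : Odd (Nat.card F)) {ι : Type*} [Fintype ι] [DecidableEq ι]
    {k : ℕ} (hι : Fintype.card ι = 2 ^ (k + 1)) :
    padicValNat 2 (Nat.card (GL (ι ⊕ ι) F)) = 2 * padicValNat 2 (Nat.card (GL ι F)) + 1 := by
  have h1 := v2_card_GL ho ι
  have h2 := v2_card_GL ho (ι ⊕ ι)
  have h3 := v2_factorial_two_pow (k + 1)
  have h4 := v2_factorial_two_pow (k + 2)
  rw [Fintype.card_sum, hι, ← two_mul, ← pow_succ'] at h2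
  rw [hι] at h1
  rw [pow_succ' 2 (k + 1), pow_succ' 2 k] at *
  generalize 2 ^ k = m at *
  rw [Nat.mul_div_cancel_left _ two_pos] at h1 h2
  have h5 : 2 * (2 * m) * padicValNat 2 (Nat.card F - 1) =
    2 * (2 * m * padicValNat 2 (Nat.card F - 1)) := by ring
  have h6 : 2 * m * padicValNat 2 (Nat.card F + 1) =
    2 * (m * padicValNat 2 (Nat.card F + 1)) := by ring
  omega

theorem exists_good [Finite F] (ho : Odd (Nat.card F))
    (h0 : ∃ S : Sylow 2 (GL (Fin 2) F), Good (S : Subgroup (GL (Fin 2) F))) (k : ℕ) :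
    ∃ (ι : Type) (_ : Fintype ι) (_ : DecidableEq ι) (S : Subgroup (GL ι F)),
      Fintype.card ι = 2 ^ (k + 1) ∧ Good S ∧
        Nat.card S = 2 ^ padicValNat 2 (Nat.card (GL ι F)) := by
  induction k with
  | zero =>
    obtain ⟨S, hS⟩ := h0
    exact ⟨Fin 2, inferInstance, inferInstance, S, by simp, hS,
      by rw [S.card_eq_multiplicity, Nat.factorization_def _ Nat.prime_two]⟩
  | succ k ih =>
    obtain ⟨ι, _, _, S, hι, hS, hc⟩ := ih
    have : Nontrivial ι := Fintype.one_lt_card_iff_nontrivial.1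
      (hι ▸ Nat.one_lt_two_pow (Nat.succ_ne_zero k))
    refine ⟨ι ⊕ ι, inferInstance, inferInstance, wr2 S, by rw [Fintype.card_sum, hι]; ring,
      hS.wr2 (two_ne_zero_of_odd ho) (hι ▸ (Nat.even_pow.2 ⟨even_two, Nat.succ_ne_zero k⟩)), ?_⟩
    rw [card_wr2, hc, v2_card_GL_sum ho hι]
    ring

/-- Sylow `2`-subgroups of `SL (2 ^ (k + 2)) F` are self-normalising for odd `q`. -/
theorem normalizer_sylow_two_SL [Finite F] (ho : Odd (Nat.card F))
    (h0 : ∃ S : Sylow 2 (GL (Fin 2) F), Good (S : Subgroup (GL (Fin 2) F))) (k : ℕ)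
    (P : Sylow 2 (SpecialLinearGroup (Fin (2 ^ (k + 2))) F)) :
    Subgroup.normalizer ((P : Subgroup (SpecialLinearGroup (Fin (2 ^ (k + 2))) F)) :
      Set (SpecialLinearGroup (Fin (2 ^ (k + 2))) F)) ≤ P := by
  obtain ⟨ι, _, _, S, hι, hS, hc⟩ := exists_good ho h0 k
  have : Nontrivial ι := Fintype.one_lt_card_iff_nontrivial.1
    (hι ▸ Nat.one_lt_two_pow (Nat.succ_ne_zero k))
  have hev : Even (Fintype.card ι) := hι ▸ (Nat.even_pow.2 ⟨even_two, Nat.succ_ne_zero k⟩)
  have h2 := two_ne_zero_of_odd ho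
  let W : Sylow 2 (GL (ι ⊕ ι) F) := Sylow.ofCard (wr2 S) (by
    rw [card_wr2, hc, Nat.factorization_def _ Nat.prime_two, v2_card_GL_sum ho hι]
    ring)
  let σ : Fin (2 ^ (k + 2)) ≃ ι ⊕ ι := Fintype.equivOfCardEq (by
    rw [Fintype.card_sum, hι, Fintype.card_fin]; ring)
  let φ : SpecialLinearGroup (Fin (2 ^ (k + 2))) F →* GL (ι ⊕ ι) F :=
    (reindexGL F σ).toMonoidHom.comp SpecialLinearGroup.toGL
  have hφ : Function.Injective φ := (reindexGL F σ).injective.comp SpecialLinearGroup.toGL_injective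
  have hφ' : ∀ s : GL (ι ⊕ ι) F, s.1.det = 1 → ∃ y, φ y = s := fun s hs =>
    ⟨⟨reindex σ.symm σ.symm s.1, by rw [det_reindex_self, hs]⟩, Units.ext (by
      change reindex σ σ (reindex σ.symm σ.symm s.1) = _
      simp)⟩
  obtain ⟨Q, hQ⟩ := P.exists_comap_eq_of_injective hφ
  obtain ⟨a, rfl⟩ := MulAction.exists_smul_eq (GL (ι ⊕ ι) F) W Q
  have hmem : ∀ y, y ∈ (P : Subgroup (SpecialLinearGroup (Fin (2 ^ (k + 2))) F)) ↔
      a⁻¹ * φ y * a ∈ wr2 S := by
    intro y
    rw [← hQ, Subgroup.mem_comap, Sylow.coe_subgroup_smul, Subgroup.mem_pointwise_smul_iff_inv_smul_mem,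
      MulAut.smul_def, MulAut.conj_inv_apply]
    rfl
  refine Alt.normalizer_sylow_le P fun g hg h => ?_
  have hg' : Odd (orderOf g) := Nat.coprime_two_left.1 hg
  obtain ⟨c, hc⟩ := hS.wr2_odd h2 hev (a⁻¹ * φ g * a) (by
    rwa [← MulAut.conj_inv_apply, MulEquiv.orderOf_eq, orderOf_injective φ hφ]) fun s hs hd => by
      obtain ⟨y, hy⟩ := hφ' (a * s * a⁻¹) (by rw [Units.val_mul, Units.val_mul, det_units_conj, hd])
      have h1 := (hmem _).1 (h y ((hmem y).2 (by simpa [hy, mul_assoc] using hs)))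
      simpa [hy, mul_assoc] using h1
  have h1 : g ∈ Subgroup.center (SpecialLinearGroup (Fin (2 ^ (k + 2))) F) := by
    rw [Subgroup.mem_center_iff]
    intro y
    apply hφ
    have h3 : (φ g).1 = c • 1 := by
      have : φ g = a * (a⁻¹ * φ g * a) * a⁻¹ := by group
      rw [this, Units.val_mul, Units.val_mul, hc]
      simp
    rw [map_mul, map_mul]
    exact Units.ext (by simp [h3])
  have h3 := Subgroup.orderOf_dvd_natCard _ h1
  rw [card_center_SL, Fintype.card_fin] at h3
  exact orderOf_eq_one_iff.1 (Nat.eq_one_of_dvd_coprimes (hg.pow_left (k + 2))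
    (h3.trans (Nat.gcd_dvd_left _ _)) dvd_rfl)

end Cfsg.Agent.GLn
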