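import Mathlib

/-!
The power series `∏ (1 - t ^ i) / (1 - q t ^ i)` has its `n`-th coefficient at most `q ^ n`.
-/

set_option autoImplicit false

namespace Cfsg.Agent.GLn

open PowerSeries

/-- All coefficients are nonnegative. -/
def NonnegPS (f : ℤ⟦X⟧) : Prop := ∀ n, 0 ≤ coeff n f

theorem NonnegPS.add {f g : ℤ⟦X⟧} (hf : NonnegPS f) (hg : NonnegPS g) : NonnegPS (f + g) :=
  fun n => by rw [map_add]; exact add_nonneg (hf n) (hg n)

theorem NonnegPS.mul {f g : ℤ⟦X⟧} (hf : NonnegPS f) (hg : NonnegPS g) : NonnegPS (f * g) :=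
  fun n => by
    rw [coeff_mul]
    exact Finset.sum_nonneg fun x _ => mul_nonneg (hf _) (hg _)

theorem nonnegPS_one : NonnegPS 1 := fun n => by
  rw [coeff_one]; split_ifs <;> simp

theorem nonnegPS_X_pow (k : ℕ) : NonnegPS (X ^ k) := fun n => by
  rw [coeff_X_pow]; split_ifs <;> simp

theorem nonnegPS_C {c : ℤ} (hc : 0 ≤ c) : NonnegPS (C c) := fun n => by
  rw [coeff_C]; split_ifs <;> simp [hc]

theorem NonnegPS.prod {s : Finset ℕ} {f : ℕ → ℤ⟦X⟧} (h : ∀ i ∈ s, NonnegPS (f i)) :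
    NonnegPS (∏ i ∈ s, f i) :=
  Finset.prod_induction f NonnegPS (fun _ _ => NonnegPS.mul) nonnegPS_one h

/-- The inverse of `1 - q t ^ j`. -/
noncomputable def bS (q j : ℕ) : ℤ⟦X⟧ := PowerSeries.mk fun n => if j ∣ n then (q : ℤ) ^ (n / j) else 0

/-- The series `(1 - t ^ j) / (1 - q t ^ j)`. -/
noncomputable def aS (q j : ℕ) : ℤ⟦X⟧ := (1 - X ^ j) * bS q j

theorem nonnegPS_bS (q j : ℕ) : NonnegPS (bS q j) := fun n => by
  rw [bS, coeff_mk]; split_ifs <;> positivity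

theorem bS_mul (q : ℕ) {j : ℕ} (hj : 0 < j) : bS q j * (1 - C (q : ℤ) * X ^ j) = 1 := by
  ext n
  rw [mul_sub, mul_one, map_sub, mul_comm (C _), ← mul_assoc, coeff_mul_C, coeff_mul_X_pow',
    coeff_one, bS, coeff_mk]
  rcases Nat.eq_zero_or_pos n with rfl | hn
  · simp [hj.ne']
  rw [if_neg hn.ne']
  by_cases h : j ≤ n
  · rw [if_pos h, coeff_mk]
    obtain ⟨m, rfl⟩ := Nat.exists_eq_add_of_le h
    rw [Nat.add_sub_cancel_left]
    simp only [Nat.dvd_add_self_left]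
    split_ifs
    · rw [Nat.add_div_left _ hj, pow_succ, sub_self]
    · simp
  · rw [if_neg h, if_neg fun h' => h (Nat.le_of_dvd hn h')]
    simp

theorem aS_eq (q : ℕ) {j : ℕ} (hj : 0 < j) :
    aS q j = 1 + C ((q : ℤ) - 1) * X ^ j * bS q j := by
  have := bS_mul q hj
  rw [aS, map_sub, map_one]
  linear_combination this

theorem nonnegPS_aS {q : ℕ} (hq : 1 ≤ q) {j : ℕ} (hj : 0 < j) : NonnegPS (aS q j) := by
  rw [aS_eq q hj]
  exact nonnegPS_one.add (((nonnegPS_C (by omega)).mul (nonnegPS_X_pow j)).mul (nonnegPS_bS q j))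

theorem coeff_aS (q : ℕ) {j : ℕ} (hj : 0 < j) (k : ℕ) :
    coeff (j * (k + 1)) (aS q j) = ((q : ℤ) - 1) * q ^ k := by
  rw [aS_eq q hj, map_add, coeff_one, if_neg (by positivity), mul_assoc, coeff_C_mul,
    coeff_X_pow_mul', if_pos (by nlinarith), mul_add, mul_one, Nat.add_sub_cancel, bS, coeff_mk,
    if_pos (dvd_mul_right _ _), Nat.mul_div_cancel_left _ hj, zero_add]

theorem coeff_zero_aS (q : ℕ) {j : ℕ} (hj : 0 < j) : coeff 0 (aS q j) = 1 := by
  rw [aS_eq q hj, map_add, coeff_one, if_pos rfl, mul_assoc, coeff_C_mul, coeff_X_pow_mul',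
    if_neg (by omega), mul_zero, add_zero]

/-- `∏ i ∈ [1, M], (1 - t ^ i) / (1 - q t ^ i)`. -/
noncomputable def gS (q M : ℕ) : ℤ⟦X⟧ := ∏ i ∈ Finset.range M, aS q (i + 1)

theorem nonnegPS_gS {q : ℕ} (hq : 1 ≤ q) (M : ℕ) : NonnegPS (gS q M) :=
  NonnegPS.prod fun i _ => nonnegPS_aS hq (Nat.succ_pos i)

/-- Auxiliary series. -/
noncomputable def eS (q m : ℕ) : ℤ⟦X⟧ :=
  (∏ i ∈ Finset.range m, aS q (i + 2)) * bS q (m + 2) * bS q (m + 3)

theorem nonnegPS_eS {q : ℕ} (hq : 1 ≤ q) (m : ℕ) : NonnegPS (eS q m) :=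
  ((NonnegPS.prod fun i _ => nonnegPS_aS hq (Nat.succ_pos _)).mul (nonnegPS_bS _ _)).mul
    (nonnegPS_bS _ _)

theorem nonnegPS_rem {q : ℕ} (hq : 1 ≤ q) (m : ℕ) :
    NonnegPS (bS q 1 - gS q (m + 2) * bS q (m + 3) + X ^ (m + 3) * eS q m -
      X ^ (2 * m + 5) * eS q m - (X * bS q 2 + X ^ 2 * aS q 3 * bS q 2)) := by
  induction m with
  | zero =>
    have h1 := bS_mul q one_pos
    have h2 := bS_mul q two_pos
    have h3 := bS_mul q three_pos
    have : bS q 1 - gS q (0 + 2) * bS q (0 + 3) + X ^ (0 + 3) * eS q 0 -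
      X ^ (2 * 0 + 5) * eS q 0 - (X * bS q 2 + X ^ 2 * aS q 3 * bS q 2) = 0 := by
      simp only [gS, eS, aS, Finset.prod_range_succ, Finset.prod_range_zero, zero_add, mul_zero,
        one_mul, pow_one, Nat.reduceAdd] at *
      linear_combination (X * bS q 2 + X ^ 2 * (1 - X) * bS q 2 * bS q 3) * h1 - bS q 1 * h2 -
        (1 - X) * bS q 1 * bS q 2 * h3
    rw [this]
    exact fun n => by simp
  | succ m ih =>
    have h1 := bS_mul q one_pos
    have h2 := bS_mul q (show 0 < m + 4 by omega)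
    have h3 := ((nonnegPS_C (show (0 : ℤ) ≤ q - 1 by omega)).mul (nonnegPS_X_pow (2 * m + 7))).mul
      (nonnegPS_eS hq (m + 1))
    convert ih.add h3 using 1
    have hg : ∀ M, gS q (M + 1) = aS q 1 * ∏ i ∈ Finset.range M, aS q (i + 2) := fun M => by
      rw [gS, Finset.prod_range_succ', mul_comm]
    simp only [hg, eS, Finset.prod_range_succ, map_sub, map_one, pow_one] at *
    generalize ∏ i ∈ Finset.range m, aS q (i + 2) = P
    simp only [aS, show m + 1 + 2 = m + 3 from rfl, show m + 1 + 3 = m + 4 from rfl, pow_one]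
    linear_combination
      ((1 - X) * P * (1 - X ^ (m + 2)) * bS q (m + 2) * bS q (m + 3) * bS q (m + 4) * X ^ (m + 3)) *
        h1 -
      ((1 - X) * bS q 1 * P * (1 - X ^ (m + 2)) * bS q (m + 2) * bS q (m + 3) -
        X ^ (m + 3) * P * (1 - X ^ (m + 2)) * bS q (m + 2) * bS q (m + 3)) * h2

theorem coeff_gS_add_le {q : ℕ} (hq : 1 ≤ q) {M n : ℕ} (hM : 2 ≤ M) (hn : n ≤ M) :
    coeff n (gS q M) + coeff n (X * bS q 2 + X ^ 2 * aS q 3 * bS q 2) ≤ (q : ℤ) ^ n := by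
  obtain ⟨m, rfl⟩ : ∃ m, M = m + 2 := ⟨M - 2, by omega⟩
  have h1 := nonnegPS_rem hq m n
  have h2 := bS_mul q (show 0 < m + 3 by omega)
  have h3 : gS q (m + 2) * bS q (m + 3) =
      gS q (m + 2) + X ^ (m + 3) * (C (q : ℤ) * gS q (m + 2) * bS q (m + 3)) := by
    linear_combination gS q (m + 2) * h2
  rw [h3, map_sub, map_sub, map_add, map_sub, map_add (coeff n) (gS q _), coeff_X_pow_mul',
    coeff_X_pow_mul', coeff_X_pow_mul', if_neg (by omega), if_neg (by omega), if_neg (by omega),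
    bS, coeff_mk] at h1
  simp only [one_dvd, if_true, Nat.div_one] at h1
  linarith

theorem coeff_gS_le {q : ℕ} (hq : 1 ≤ q) {M n : ℕ} (hM : 2 ≤ M) (hn : n ≤ M) :
    coeff n (gS q M) ≤ (q : ℤ) ^ n := by
  have h1 := coeff_gS_add_le hq hM hn
  have h2 : NonnegPS (X * bS q 2 + X ^ 2 * aS q 3 * bS q 2) :=
    ((pow_one (X : ℤ⟦X⟧) ▸ nonnegPS_X_pow 1).mul (nonnegPS_bS _ _)).add
      (((nonnegPS_X_pow 2).mul (nonnegPS_aS hq three_pos)).mul (nonnegPS_bS _ _))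
  linarith [h2 n]

theorem coeff_one_gS_le {q : ℕ} (hq : 1 ≤ q) {M : ℕ} (hM : 2 ≤ M) :
    coeff 1 (gS q M) + 1 ≤ (q : ℤ) := by
  have h1 := coeff_gS_add_le hq hM (show 1 ≤ M by omega)
  rw [map_add, mul_assoc, coeff_X_pow_mul', if_neg (by omega), coeff_succ_X_mul, bS, coeff_mk] at h1
  simpa using h1

theorem coeff_two_gS_le {q : ℕ} (hq : 1 ≤ q) {M : ℕ} (hM : 2 ≤ M) :
    coeff 2 (gS q M) + 1 ≤ (q : ℤ) ^ 2 := by
  have h1 := coeff_gS_add_le hq hM hM
  rw [map_add, mul_assoc, coeff_X_pow_mul', if_pos le_rfl, coeff_succ_X_mul, Nat.sub_self,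
    coeff_zero_eq_constantCoeff_apply, map_mul, ← coeff_zero_eq_constantCoeff_apply,
    ← coeff_zero_eq_constantCoeff_apply, coeff_zero_aS q three_pos, bS, coeff_mk, coeff_mk] at h1
  simpa using h1

theorem coeff_three_gS_le {q : ℕ} (hq : 1 ≤ q) {M : ℕ} (hM : 3 ≤ M) :
    coeff 3 (gS q M) + q ≤ (q : ℤ) ^ 3 := by
  have h1 := coeff_gS_add_le hq (by omega) hM
  have h2 := (((nonnegPS_X_pow 2).mul (nonnegPS_aS hq three_pos)).mul (nonnegPS_bS q 2)) 3
  rw [map_add, coeff_succ_X_mul, bS, coeff_mk] at h1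
  simp only [dvd_refl, if_true, Nat.reduceDiv, pow_one] at h1
  rw [bS] at h2
  linarith

end Cfsg.Agent.GLn
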