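import Mathlib

/-!
Counting monic polynomials over a finite field.
-/

set_option autoImplicit false

namespace Cfsg.Agent.GLn

open Polynomial

variable {F : Type*} [Field F]

theorem card_monic_natDegree_eq [Finite F] (k : ℕ) :
    Nat.card {f : F[X] // f.Monic ∧ f.natDegree = k} = Nat.card F ^ k := by
  rw [Nat.card_congr ((monicEquivDegreeLT k).trans (degreeLTEquiv F k).toEquiv), Nat.card_fun]
  simp

instance finite_monic_natDegree_eq [Finite F] (k : ℕ) :
    Finite {f : F[X] // f.Monic ∧ f.natDegree = k} :=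
  Finite.of_equiv _ ((monicEquivDegreeLT k).trans (degreeLTEquiv F k).toEquiv).symm

/-- Monic polynomials of degree `k + 1` with prescribed constant term. -/
noncomputable def monicCoeffZeroEquiv (k : ℕ) (a : F) :
    {f : F[X] // f.Monic ∧ f.natDegree = k} ≃
      {f : F[X] // f.Monic ∧ f.natDegree = k + 1 ∧ f.coeff 0 = a} where
  toFun f := ⟨f.1 * X + C a, by
    have h1 : (f.1 * X).Monic := f.2.1.mul monic_X
    have h2 : (f.1 * X).natDegree = k + 1 := by rw [f.2.1.natDegree_mul monic_X, f.2.2, natDegree_X]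
    refine ⟨h1.add_of_left ?_, by rw [natDegree_add_C, h2], by simp⟩
    refine degree_C_le.trans_lt ?_
    rw [degree_eq_natDegree h1.ne_zero, h2]
    exact_mod_cast Nat.succ_pos k⟩
  invFun f := ⟨f.1.divX, by
    have h2 : f.1.divX.natDegree = k := by rw [natDegree_divX_eq_natDegree_tsub_one, f.2.2.1]; rfl
    refine ⟨?_, h2⟩
    have h3 := f.2.1
    rw [Monic, leadingCoeff, f.2.2.1] at h3
    rw [Monic, leadingCoeff, h2, coeff_divX]
    exact h3⟩
  left_inv f := by
    apply Subtype.ext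
    ext i
    simp [coeff_divX, coeff_C]
  right_inv f := by
    apply Subtype.ext
    have := divX_mul_X_add f.1
    rw [f.2.2.2] at this
    exact this

theorem card_monic_coeff_zero_eq [Finite F] (k : ℕ) (a : F) :
    Nat.card {f : F[X] // f.Monic ∧ f.natDegree = k + 1 ∧ f.coeff 0 = a} = Nat.card F ^ k := by
  rw [← Nat.card_congr (monicCoeffZeroEquiv k a), card_monic_natDegree_eq]

instance finite_monic_coeff_zero_eq [Finite F] (k : ℕ) (P : F[X] → Prop) :
    Finite {f : F[X] // f.Monic ∧ f.natDegree = k ∧ P f} :=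
  Finite.of_injective (fun f => (⟨f.1, f.2.1, f.2.2.1⟩ : {f : F[X] // f.Monic ∧ f.natDegree = k}))
    fun _ _ h => Subtype.ext (by simpa using h)

theorem card_monic_coeff_zero_ne [Finite F] (k : ℕ) :
    Nat.card {f : F[X] // f.Monic ∧ f.natDegree = k + 1 ∧ f.coeff 0 ≠ 0} =
      (Nat.card F - 1) * Nat.card F ^ k := by
  have e : {f : F[X] // f.Monic ∧ f.natDegree = k + 1 ∧ f.coeff 0 ≠ 0} ≃
      Σ a : Fˣ, {f : F[X] // f.Monic ∧ f.natDegree = k + 1 ∧ f.coeff 0 = a} :=
    { toFun := fun f => ⟨Units.mk0 _ f.2.2.2, f.1, f.2.1, f.2.2.1, rfl⟩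
      invFun := fun f => ⟨f.2.1, f.2.2.1, f.2.2.2.1, by rw [f.2.2.2.2]; exact f.1.ne_zero⟩
      left_inv := fun f => rfl
      right_inv := by
        rintro ⟨a, f, h1, h2, h3⟩
        have h0 : f.coeff 0 ≠ 0 := by rw [h3]; exact a.ne_zero
        obtain rfl : a = Units.mk0 (f.coeff 0) h0 := Units.ext h3.symm
        rfl }
  have := Fintype.ofFinite Fˣ
  rw [Nat.card_congr e, Nat.card_sigma]
  simp [card_monic_coeff_zero_eq, ← Nat.card_eq_fintype_card, Nat.card_units]

end Cfsg.Agent.GLn
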