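import Cfsg.Agent.Lib.GLn.ClassSeries
import Cfsg.Agent.Lib.GLn.PolyCount

/-!
Sequences of monic polynomials with nonzero constant term and total weight `n`: they parametrise
the conjugacy classes of `GL n F`.
-/

set_option autoImplicit false

namespace Cfsg.Agent.GLn

open Polynomial Finset

variable {F : Type*} [Field F]

/-- `u 1, …, u M` are monic with nonzero constant term and `∑ i * deg (u i) = n`. -/
def IsU (M n : ℕ) (u : ℕ → F[X]) : Prop :=
  (∀ i, (u i).Monic) ∧ (∀ i, (u i).coeff 0 ≠ 0) ∧ u 0 = 1 ∧ (∀ i, M < i → u i = 1) ∧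
    ∑ i ∈ range (M + 1), i * (u i).natDegree = n

/-- The type of such sequences. -/
abbrev UT (F : Type*) [Field F] (M n : ℕ) := {u : ℕ → F[X] // IsU M n u}

theorem card_W_le [Finite F] {i : ℕ} (hi : 0 < i) (b : ℕ) :
    Finite {f : F[X] // f.Monic ∧ f.coeff 0 ≠ 0 ∧ i * f.natDegree = b} ∧
    (Nat.card {f : F[X] // f.Monic ∧ f.coeff 0 ≠ 0 ∧ i * f.natDegree = b} : ℤ) ≤
      PowerSeries.coeff b (aS (Nat.card F) i) := by
  have hq : 1 ≤ Nat.card F := Nat.card_pos
  by_cases h : i ∣ b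
  · obtain ⟨k, rfl⟩ := h
    have e : {f : F[X] // f.Monic ∧ f.coeff 0 ≠ 0 ∧ i * f.natDegree = i * k} ≃
        {f : F[X] // f.Monic ∧ f.natDegree = k ∧ f.coeff 0 ≠ 0} :=
      Equiv.subtypeEquivRight fun f => by
        rw [Nat.mul_right_inj hi.ne']
        tauto
    refine ⟨Finite.of_equiv _ e.symm, ?_⟩
    rw [Nat.card_congr e]
    cases k with
    | zero =>
      rw [mul_zero, coeff_zero_aS _ hi]
      have : Subsingleton {f : F[X] // f.Monic ∧ f.natDegree = 0 ∧ f.coeff 0 ≠ 0} :=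
        ⟨fun f g => Subtype.ext (by
          rw [f.2.1.natDegree_eq_zero.1 f.2.2.1, g.2.1.natDegree_eq_zero.1 g.2.2.1])⟩
      exact_mod_cast Finite.card_le_one_iff_subsingleton.2 this
    | succ k =>
      rw [card_monic_coeff_zero_ne, coeff_aS _ hi]
      push_cast [hq]
      rfl
  · have : IsEmpty {f : F[X] // f.Monic ∧ f.coeff 0 ≠ 0 ∧ i * f.natDegree = b} :=
      ⟨fun f => h ⟨_, f.2.2.2.symm⟩⟩
    refine ⟨inferInstance, ?_⟩
    rw [Nat.card_of_isEmpty]
    exact nonnegPS_aS hq hi b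

theorem card_UT_le_aux [Finite F] (M n : ℕ) :
    Finite (UT F M n) ∧ (Nat.card (UT F M n) : ℤ) ≤ PowerSeries.coeff n (gS (Nat.card F) M) := by
  classical
  induction M generalizing n with
  | zero =>
    have hs : Subsingleton (UT F 0 n) := ⟨fun u v => Subtype.ext (funext fun i => by
      rcases Nat.eq_zero_or_pos i with rfl | hi
      · rw [u.2.2.2.1, v.2.2.2.1]
      · rw [u.2.2.2.2.1 i hi, v.2.2.2.2.1 i hi])⟩
    refine ⟨inferInstance, ?_⟩
    rw [gS, prod_range_zero, PowerSeries.coeff_one]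
    split_ifs with h
    · exact_mod_cast Finite.card_le_one_iff_subsingleton.2 hs
    · have : IsEmpty (UT F 0 n) := ⟨fun u => h (by simpa using u.2.2.2.2.2.symm)⟩
      simp
  | succ M ih =>
    let T := Σ ab : antidiagonal n, UT F M ab.1.1 ×
      {f : F[X] // f.Monic ∧ f.coeff 0 ≠ 0 ∧ (M + 1) * f.natDegree = ab.1.2}
    have := fun n => (ih n).1
    have := fun b => (card_W_le (F := F) (Nat.succ_pos M) b).1
    let φ : UT F (M + 1) n → T := fun u =>
      ⟨⟨(∑ i ∈ range (M + 1), i * (u.1 i).natDegree, (M + 1) * (u.1 (M + 1)).natDegree), by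
        rw [HasAntidiagonal.mem_antidiagonal]
        exact (sum_range_succ _ (M + 1)).symm.trans u.2.2.2.2.2⟩,
        ⟨Function.update u.1 (M + 1) 1, by
          refine ⟨fun i => ?_, fun i => ?_, ?_, fun i hi => ?_, ?_⟩
          · rcases eq_or_ne i (M + 1) with rfl | h
            · simp
            · rw [Function.update_of_ne h]; exact u.2.1 i
          · rcases eq_or_ne i (M + 1) with rfl | h
            · simp
            · rw [Function.update_of_ne h]; exact u.2.2.1 i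
          · rw [Function.update_of_ne (by omega)]; exact u.2.2.2.1
          · rcases eq_or_ne i (M + 1) with rfl | h
            · simp
            · rw [Function.update_of_ne h]; exact u.2.2.2.2.1 i (by omega)
          · refine sum_congr rfl fun i hi => ?_
            rw [Function.update_of_ne (mem_range.1 hi).ne]⟩,
        ⟨u.1 (M + 1), u.2.1 _, u.2.2.1 _, rfl⟩⟩
    have hφ : Function.Injective φ := by
      intro u v h
      have h1 : Function.update u.1 (M + 1) 1 = Function.update v.1 (M + 1) 1 :=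
        congrArg (fun x : T => x.2.1.1) h
      have h2 : u.1 (M + 1) = v.1 (M + 1) := congrArg (fun x : T => x.2.2.1) h
      apply Subtype.ext
      funext i
      rcases eq_or_ne i (M + 1) with rfl | hi
      · exact h2
      · simpa [Function.update_of_ne hi] using congrFun h1 i
    refine ⟨Finite.of_injective φ hφ, ?_⟩
    have h3 := Nat.card_le_card_of_injective φ hφ
    rw [Nat.card_sigma] at h3
    rw [gS, prod_range_succ, PowerSeries.coeff_mul, ← sum_coe_sort]
    refine le_trans (Int.ofNat_le.2 h3) ?_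
    push_cast
    refine sum_le_sum fun ab _ => ?_
    rw [Nat.card_prod]
    push_cast
    exact mul_le_mul (ih _).2 (card_W_le (Nat.succ_pos M) _).2 (Int.natCast_nonneg _)
      (nonnegPS_gS Nat.card_pos _ _)

instance finite_UT [Finite F] (M n : ℕ) : Finite (UT F M n) := (card_UT_le_aux M n).1

noncomputable instance fintype_UT [Finite F] (M n : ℕ) : Fintype (UT F M n) := Fintype.ofFinite _

theorem card_UT_le [Finite F] {M n : ℕ} (hM : 2 ≤ M) (hn : n ≤ M) :
    Nat.card (UT F M n) ≤ Nat.card F ^ n := by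
  exact_mod_cast (card_UT_le_aux (F := F) M n).2.trans (coeff_gS_le Nat.card_pos hM hn)

theorem card_UT_one_le [Finite F] {M : ℕ} (hM : 2 ≤ M) :
    Nat.card (UT F M 1) + 1 ≤ Nat.card F := by
  have h1 := (card_UT_le_aux (F := F) M 1).2
  have h2 := coeff_one_gS_le (q := Nat.card F) Nat.card_pos hM
  omega

theorem card_UT_two_le [Finite F] {M : ℕ} (hM : 2 ≤ M) :
    Nat.card (UT F M 2) + 1 ≤ Nat.card F ^ 2 := by
  have h1 := (card_UT_le_aux (F := F) M 2).2
  have h2 := coeff_two_gS_le (q := Nat.card F) Nat.card_pos hM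
  zify
  linarith

theorem card_UT_three_le [Finite F] {M : ℕ} (hM : 3 ≤ M) :
    Nat.card (UT F M 3) + Nat.card F ≤ Nat.card F ^ 3 := by
  have h1 := (card_UT_le_aux (F := F) M 3).2
  have h2 := coeff_three_gS_le (q := Nat.card F) Nat.card_pos hM
  zify
  linarith

/-- The subgroup generated by the `i`-th powers, `i ∈ S`. -/
def HSub (F : Type*) [Field F] (S : Set ℕ) : Subgroup Fˣ :=
  ⨆ i ∈ S, (powMonoidHom i : Fˣ →* Fˣ).range

theorem pow_mem_HSub {S : Set ℕ} {i : ℕ} (hi : i ∈ S) (c : Fˣ) : c ^ i ∈ HSub F S :=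
  (le_iSup₂ (f := fun i (_ : i ∈ S) => (powMonoidHom i : Fˣ →* Fˣ).range) i hi) ⟨c, rfl⟩

theorem index_HSub_dvd [Finite F] {S : Set ℕ} {i : ℕ} (hi : i ∈ S) : (HSub F S).index ∣ i := by
  obtain ⟨γ, hγ⟩ := IsCyclic.exists_generator (α := Fˣ ⧸ HSub F S)
  obtain ⟨c, rfl⟩ := QuotientGroup.mk_surjective γ
  rw [Subgroup.index, ← orderOf_eq_card_of_forall_mem_zpowers hγ, orderOf_dvd_iff_pow_eq_one,
    ← QuotientGroup.mk_pow, QuotientGroup.eq_one_iff]
  exact pow_mem_HSub hi c

theorem index_HSub_mul_card [Finite F] (S : Set ℕ) :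
    (HSub F S).index * Nat.card (HSub F S) = Nat.card F - 1 := by
  rw [Subgroup.index_mul_card, Nat.card_units]

theorem exists_prod_eq_of_mem_HSub {S : Set ℕ} {M : ℕ} (hS : ∀ i ∈ S, i ≤ M) {t : Fˣ}
    (ht : t ∈ HSub F S) :
    ∃ c : ℕ → Fˣ, (∀ i, i ∉ S → c i = 1) ∧ ∏ i ∈ range (M + 1), c i ^ i = t := by
  classical
  rw [HSub, iSup_subtype'] at ht
  induction ht using Subgroup.iSup_induction' with
  | hp i x hx =>
    obtain ⟨c, rfl⟩ := hx
    refine ⟨Pi.mulSingle i.1 c, fun j hj => Pi.mulSingle_eq_of_ne (fun h : j = i.1 => hj (h ▸ i.2)) _, ?_⟩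
    rw [prod_eq_single i.1]
    · simp
    · intro j _ hj
      simp [Pi.mulSingle_eq_of_ne hj]
    · intro h
      exact absurd (mem_range.2 (Nat.lt_succ_of_le (hS _ i.2))) h
  | h1 => exact ⟨1, fun _ _ => rfl, by simp⟩
  | hmul x y _ _ hx hy =>
    obtain ⟨c, hc, rfl⟩ := hx
    obtain ⟨d, hd, rfl⟩ := hy
    exact ⟨c * d, fun i hi => by simp [hc i hi, hd i hi], by simp [mul_pow, prod_mul_distrib]⟩

/-- The support of a sequence. -/
def suppU (u : ℕ → F[X]) : Set ℕ := {i | u i ≠ 1}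

/-- The index attached to a sequence: the gcd of `q - 1` and of the support. -/
noncomputable def gU (u : ℕ → F[X]) : ℕ := (HSub F (suppU u)).index

/-- The constant term of `∏ u i ^ i`. -/
noncomputable def cstU (M : ℕ) (u : ℕ → F[X]) : F := ∏ i ∈ range (M + 1), (u i).coeff 0 ^ i

theorem gU_pos [Finite F] (u : ℕ → F[X]) : 0 < gU u :=
  Nat.pos_of_ne_zero Subgroup.index_ne_zero_of_finite

theorem gU_dvd_pred [Finite F] (u : ℕ → F[X]) : gU u ∣ Nat.card F - 1 :=
  ⟨_, (index_HSub_mul_card _).symm⟩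

theorem gU_dvd [Finite F] {M n : ℕ} {u : ℕ → F[X]} (hu : IsU M n u) : gU u ∣ n := by
  rw [← hu.2.2.2.2]
  refine dvd_sum fun i _ => ?_
  by_cases h : u i = 1
  · simp [h]
  · exact (index_HSub_dvd (S := suppU u) h).mul_right _

/-- The constant terms are equidistributed among the cosets. -/
theorem sum_gU_mul_le [Finite F] [DecidableEq F] (M n : ℕ) (a : F) :
    (∑ u : UT F M n with cstU M u.1 = a, gU u.1) * (Nat.card F - 1) ≤
      ∑ u : UT F M n, gU u.1 ^ 2 := by
  classical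
  have := Fintype.ofFinite F
  have h0 : ∀ (S : Set ℕ) (t : Fˣ), ∃ c : ℕ → Fˣ, (∀ i ∈ S, i ≤ M) → t ∈ HSub F S →
      (∀ i, i ∉ S → c i = 1) ∧ ∏ i ∈ range (M + 1), c i ^ i = t := by
    intro S t
    by_cases h : (∀ i ∈ S, i ≤ M) ∧ t ∈ HSub F S
    · obtain ⟨c, hc⟩ := exists_prod_eq_of_mem_HSub h.1 h.2
      exact ⟨c, fun _ _ => hc⟩
    · exact ⟨1, fun h1 h2 => absurd ⟨h1, h2⟩ h⟩
  choose c hc using h0
  have hsupp : ∀ u : UT F M n, ∀ i ∈ suppU u.1, i ≤ M := fun u i hi =>
    not_lt.1 fun h => hi (u.2.2.2.2.1 i h)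
  let w : (ℕ → F[X]) → (ℕ → Fˣ) → ℕ → F[X] := fun u d i => u i + C ((d i - 1) * (u i).coeff 0)
  have hw0 : ∀ u d i, (w u d i).coeff 0 = d i * (u i).coeff 0 := by
    intro u d i
    simp only [w, coeff_add, coeff_C_zero]
    ring
  have hwdeg : ∀ u d i, (w u d i).natDegree = (u i).natDegree := fun u d i => natDegree_add_C
  have hw1 : ∀ (u : ℕ → F[X]) (d : ℕ → Fˣ) i, d i = 1 → w u d i = u i := by
    intro u d i h
    simp [w, h]
  have hwm : ∀ (u : UT F M n) (d : ℕ → Fˣ), (∀ i, i ∉ suppU u.1 → d i = 1) →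
      ∀ i, (w u.1 d i).Monic := by
    intro u d hd i
    by_cases h : u.1 i = 1
    · rw [hw1 _ _ _ (hd i (not_not.2 h))]
      exact u.2.1 i
    · refine (u.2.1 i).add_of_left (degree_C_le.trans_lt ?_)
      exact (u.2.1 i).degree_pos.2 h
  have hws : ∀ (u : UT F M n) (d : ℕ → Fˣ), (∀ i, i ∉ suppU u.1 → d i = 1) →
      suppU (w u.1 d) = suppU u.1 := by
    intro u d hd
    ext i
    simp only [suppU, Set.mem_ofPred_eq]
    rw [Ne, Ne, ← (hwm u d hd i).natDegree_eq_zero, ← (u.2.1 i).natDegree_eq_zero, hwdeg]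
  have hwU : ∀ (u : UT F M n) (d : ℕ → Fˣ), (∀ i, i ∉ suppU u.1 → d i = 1) →
      IsU M n (w u.1 d) := by
    intro u d hd
    refine ⟨hwm u d hd, fun i => ?_, ?_, fun i hi => ?_, ?_⟩
    · rw [hw0]
      exact mul_ne_zero (d i).ne_zero (u.2.2.1 i)
    · rw [hw1 _ _ _ (hd 0 (not_not.2 u.2.2.2.1)), u.2.2.2.1]
    · rw [hw1 _ _ _ (hd i (not_not.2 (u.2.2.2.2.1 i hi))), u.2.2.2.2.1 i hi]
    · simp only [hwdeg]
      exact u.2.2.2.2.2
  let s : Finset (Σ _ : UT F M n, Fˣ) :=
    (univ.filter fun u : UT F M n => cstU M u.1 = a).sigma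
      fun u => univ.filter fun t => t ∈ HSub F (suppU u.1)
  let ψ : (Σ _ : UT F M n, Fˣ) → UT F M n := fun x =>
    if h : x.2 ∈ HSub F (suppU x.1.1) then
      ⟨w x.1.1 (c (suppU x.1.1) x.2), hwU _ _ (hc _ _ (hsupp _) h).1⟩ else x.1
  have hψ : ∀ x ∈ s, (ψ x).1 = w x.1.1 (c (suppU x.1.1) x.2) := by
    intro x hx
    have h : x.2 ∈ HSub F (suppU x.1.1) := (mem_filter.1 (mem_sigma.1 hx).2).2
    simp only [ψ, dif_pos h]
  have hψs : ∀ x ∈ s, suppU (ψ x).1 = suppU x.1.1 := by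
    intro x hx
    have h : x.2 ∈ HSub F (suppU x.1.1) := (mem_filter.1 (mem_sigma.1 hx).2).2
    rw [hψ x hx, hws _ _ (hc _ _ (hsupp _) h).1]
  have hψc : ∀ x ∈ s, cstU M (ψ x).1 = x.2 * a := by
    intro x hx
    have h : x.2 ∈ HSub F (suppU x.1.1) := (mem_filter.1 (mem_sigma.1 hx).2).2
    have h' : cstU M x.1.1 = a := (mem_filter.1 (mem_sigma.1 hx).1).2
    have h2 := congrArg Units.val (hc _ _ (hsupp _) h).2
    rw [hψ x hx, ← h', ← h2]
    simp only [cstU, hw0, mul_pow, prod_mul_distrib]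
    simp
  have hinj : Set.InjOn ψ s := by
    rintro ⟨u, t⟩ hx ⟨v, t'⟩ hy h
    have h1 : suppU u.1 = suppU v.1 := by rw [← hψs _ hx, h, hψs _ hy]
    have ha : a ≠ 0 := by
      have h' : cstU M u.1 = a := (mem_filter.1 (mem_sigma.1 hx).1).2
      rw [← h']
      exact prod_ne_zero_iff.2 fun i _ => pow_ne_zero _ (u.2.2.1 i)
    have h2 : t = t' := by
      have := hψc _ hx
      rw [h, hψc _ hy] at this
      exact Units.ext (mul_right_cancel₀ ha this).symm
    subst h2
    have h3 := hψ _ hx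
    rw [h, hψ _ hy] at h3
    simp only [h1] at h3
    have h4 : u = v := by
      apply Subtype.ext
      funext i
      have h5 := congrFun h3 i
      have h6 := congrArg (fun f => coeff f 0) h5
      simp only [hw0] at h6
      have h7 := mul_left_cancel₀ (Units.ne_zero _) h6
      simp only [w, h7] at h5
      exact (add_right_cancel h5).symm
    rw [h4]
  calc (∑ u : UT F M n with cstU M u.1 = a, gU u.1) * (Nat.card F - 1)
      = ∑ x ∈ s, gU x.1.1 ^ 2 := by
        rw [sum_sigma, sum_mul]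
        refine sum_congr rfl fun u _ => ?_
        rw [← index_HSub_mul_card (suppU u.1), ← mul_assoc, ← gU]
        dsimp only
        rw [sum_const, smul_eq_mul, Nat.card_eq_fintype_card, Fintype.card_subtype]
        ring
    _ = ∑ x ∈ s, gU (ψ x).1 ^ 2 := sum_congr rfl fun x hx => by rw [gU, gU, hψs x hx]
    _ = ∑ v ∈ s.image ψ, gU v.1 ^ 2 := (sum_image (f := fun v : UT F M n => gU v.1 ^ 2) hinj).symm
    _ ≤ _ := sum_le_sum_of_subset (subset_univ _)

theorem card_filter_gU_le [Finite F] (M n d : ℕ) :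
    (univ.filter fun u : UT F M n => gU u.1 = d).card ≤ Nat.card (UT F M (n / d)) := by
  classical
  rw [Nat.card_eq_fintype_card, ← Fintype.card_subtype]
  have key : ∀ u : UT F M n, gU u.1 = d → ∀ i, ¬ d ∣ i → u.1 i = 1 := fun u hu i hi => by
    by_contra h
    exact hi (hu ▸ index_HSub_dvd (S := suppU u.1) h)
  refine Fintype.card_le_of_injective (fun u => ⟨fun i => u.1.1 (d * i), fun i => u.1.2.1 _,
    fun i => u.1.2.2.1 _, by simpa using u.1.2.2.2.1, fun i hi => u.1.2.2.2.2.1 _ ?_, ?_⟩) ?_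
  · have : 0 < d := u.2 ▸ gU_pos _
    nlinarith
  · have hd : 0 < d := u.2 ▸ gU_pos _
    symm
    apply Nat.div_eq_of_eq_mul_right hd
    refine u.1.2.2.2.2.2.symm.trans ?_
    rw [mul_sum]
    symm
    refine sum_bij_ne_zero (fun i _ _ => d * i) (fun i hi h => ?_) (fun i _ _ j _ _ h => ?_)
      (fun j hj h => ?_) (fun i _ _ => by ring)
    · rw [mem_range, Nat.lt_succ_iff]
      by_contra h1
      exact h (by simp [u.1.2.2.2.2.1 _ (not_le.1 h1)])
    · exact Nat.eq_of_mul_eq_mul_left hd h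
    · obtain ⟨i, rfl⟩ : d ∣ j := by
        by_contra h1
        exact h (by rw [key u.1 u.2 j h1]; simp)
      refine ⟨i, ?_, ?_, rfl⟩
      · rw [mem_range] at hj ⊢
        nlinarith
      · rwa [← mul_assoc]
  · intro u v h
    have h1 : (fun i => u.1.1 (d * i)) = fun i => v.1.1 (d * i) := congrArg Subtype.val h
    apply Subtype.ext
    apply Subtype.ext
    funext i
    by_cases hi : d ∣ i
    · obtain ⟨j, rfl⟩ := hi
      exact congrFun h1 j
    · rw [key u.1 u.2 i hi, key v.1 v.2 i hi]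

theorem sum_gU_sq_le [Finite F] (M : ℕ) {n : ℕ} (hn : 0 < n) :
    ∑ u : UT F M n, gU u.1 ^ 2 ≤ Nat.card (UT F M n) +
      ∑ d ∈ (Icc 2 n).filter (fun d => d ∣ n ∧ d ∣ Nat.card F - 1),
        (d ^ 2 - 1) * Nat.card (UT F M (n / d)) := by
  classical
  have h1 : ∑ u : UT F M n, gU u.1 ^ 2 = ∑ u : UT F M n, (1 + (gU u.1 ^ 2 - 1)) :=
    sum_congr rfl fun u _ => by
      have := Nat.one_le_pow 2 _ (gU_pos u.1)
      omega
  rw [h1, sum_add_distrib, sum_const, smul_eq_mul, mul_one, card_univ, ← Nat.card_eq_fintype_card,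
    Nat.add_le_add_iff_left, ← sum_filter_of_ne (p := fun u : UT F M n => gU u.1 ≠ 1)
      (fun u _ h h' => h (by simp [h'])),
    ← sum_fiberwise_of_maps_to (t := (Icc 2 n).filter (fun d => d ∣ n ∧ d ∣ Nat.card F - 1))
      (g := fun u : UT F M n => gU u.1)]
  · refine sum_le_sum fun d _ => ?_
    rw [sum_congr rfl (g := fun _ => d ^ 2 - 1) (fun u hu => by rw [(mem_filter.1 hu).2]),
      sum_const, smul_eq_mul, mul_comm]
    refine Nat.mul_le_mul_left _ (le_trans (card_le_card ?_) (card_filter_gU_le M n d))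
    intro u hu
    exact mem_filter.2 ⟨mem_univ _, (mem_filter.1 hu).2⟩
  · intro u hu
    have h2 := (mem_filter.1 hu).2
    have h3 := gU_pos u.1
    exact mem_filter.2 ⟨mem_Icc.2 ⟨by omega, Nat.le_of_dvd hn (gU_dvd u.2)⟩, gU_dvd u.2,
      gU_dvd_pred _⟩

end Cfsg.Agent.GLn
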