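import Cfsg.Agent.Lib.GLn.TwoVal
import Cfsg.Agent.Lib.SL2.SylowAux
import Cfsg.Agent.Lib.Alt.Sylow2

/-!
Wreath products `S ≀ C₂` of `2`-subgroups of general linear groups in odd characteristic, and
the elements of odd order which normalise them.
-/

set_option autoImplicit false

namespace Cfsg.Agent.GLn

open Matrix

variable {F : Type*} [Field F] {ι : Type*} [Fintype ι] [DecidableEq ι]

/-- The wreath product `S ≀ C₂` acting on two copies of the space. -/
def wr2 (S : Subgroup (GL ι F)) : Subgroup (GL (ι ⊕ ι) F) where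
  carrier := {g | ∃ a ∈ S, ∃ b ∈ S, g.1 = fromBlocks a.1 0 0 b.1 ∨ g.1 = fromBlocks 0 a.1 b.1 0}
  one_mem' := ⟨1, one_mem _, 1, one_mem _, Or.inl (by simp)⟩
  mul_mem' := by
    rintro g h ⟨a, ha, b, hb, hg | hg⟩ ⟨c, hc, d, hd, hh | hh⟩
    · exact ⟨_, mul_mem ha hc, _, mul_mem hb hd, Or.inl (by simp [hg, hh, fromBlocks_multiply])⟩
    · exact ⟨_, mul_mem ha hc, _, mul_mem hb hd, Or.inr (by simp [hg, hh, fromBlocks_multiply])⟩
    · exact ⟨_, mul_mem ha hd, _, mul_mem hb hc, Or.inr (by simp [hg, hh, fromBlocks_multiply])⟩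
    · exact ⟨_, mul_mem ha hd, _, mul_mem hb hc, Or.inl (by simp [hg, hh, fromBlocks_multiply])⟩
  inv_mem' := by
    rintro g ⟨a, ha, b, hb, hg | hg⟩
    · exact ⟨_, inv_mem ha, _, inv_mem hb, Or.inl (Units.inv_eq_of_mul_eq_one_right
        (by simp [hg, fromBlocks_multiply]))⟩
    · exact ⟨_, inv_mem hb, _, inv_mem ha, Or.inr (Units.inv_eq_of_mul_eq_one_right
        (by simp [hg, fromBlocks_multiply]))⟩

theorem mem_wr2 {S : Subgroup (GL ι F)} {g : GL (ι ⊕ ι) F} : g ∈ wr2 S ↔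
    ∃ a ∈ S, ∃ b ∈ S, g.1 = fromBlocks a.1 0 0 b.1 ∨ g.1 = fromBlocks 0 a.1 b.1 0 := Iff.rfl

/-- Block antidiagonal matrices. -/
def antiGL (a b : GL ι F) : GL (ι ⊕ ι) F :=
  ⟨fromBlocks 0 a.1 b.1 0, fromBlocks 0 b⁻¹.1 a⁻¹.1 0, by simp [fromBlocks_multiply],
    by simp [fromBlocks_multiply]⟩

theorem coe_antiGL (a b : GL ι F) : (antiGL a b).1 = fromBlocks 0 a.1 b.1 0 := rfl

theorem blockGL_mem_wr2 {S : Subgroup (GL ι F)} {a b : GL ι F} (ha : a ∈ S) (hb : b ∈ S) :
    blockGL F ι ι (a, b) ∈ wr2 S := ⟨a, ha, b, hb, Or.inl rfl⟩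

theorem antiGL_mem_wr2 {S : Subgroup (GL ι F)} {a b : GL ι F} (ha : a ∈ S) (hb : b ∈ S) :
    antiGL a b ∈ wr2 S := ⟨a, ha, b, hb, Or.inr rfl⟩

theorem card_wr2 [Nonempty ι] (S : Subgroup (GL ι F)) :
    Nat.card (wr2 S) = 2 * Nat.card S ^ 2 := by
  have h : Nat.card ((S × S) ⊕ (S × S)) = Nat.card (wr2 S) := by
    refine Nat.card_eq_of_bijective (Sum.elim
      (fun x => ⟨_, blockGL_mem_wr2 x.1.2 x.2.2⟩) fun x => ⟨_, antiGL_mem_wr2 x.1.2 x.2.2⟩) ⟨?_, ?_⟩
    · rintro (x | x) (y | y) h <;>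
        have h1 := fromBlocks_inj.1 (congrArg (fun g : wr2 S => g.1.1) h)
      · rw [Prod.ext (Subtype.ext (Units.ext h1.1)) (Subtype.ext (Units.ext h1.2.2.2))]
      · exact absurd h1.1 (Units.ne_zero _)
      · exact absurd h1.1.symm (Units.ne_zero _)
      · rw [Prod.ext (Subtype.ext (Units.ext h1.2.1)) (Subtype.ext (Units.ext h1.2.2.1))]
    · rintro ⟨g, a, ha, b, hb, hg | hg⟩
      · exact ⟨Sum.inl (⟨a, ha⟩, ⟨b, hb⟩), Subtype.ext (Units.ext hg.symm)⟩
      · exact ⟨Sum.inr (⟨a, ha⟩, ⟨b, hb⟩), Subtype.ext (Units.ext hg.symm)⟩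
  rcases finite_or_infinite S with _ | _
  · rw [← h, Nat.card_sum, Nat.card_prod]
    ring
  · rw [← h]
    simp

theorem det_antiGL_one_neg_one : (antiGL (1 : GL ι F) (-1)).1.det = 1 := by
  have : (antiGL (1 : GL ι F) (-1)).1 = fromBlocks 1 1 0 1 * fromBlocks 1 0 (-1) 1 *
      fromBlocks 1 1 0 1 := by simp [coe_antiGL, fromBlocks_multiply]
  rw [this, det_mul, det_mul, det_fromBlocks_zero₂₁, det_fromBlocks_zero₁₂]
  simp

theorem det_blockGL (a b : GL ι F) : (blockGL F ι ι (a, b)).1.det = a.1.det * b.1.det := by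
  rw [coe_blockGL, det_fromBlocks_zero₂₁]

theorem eq_zero_of_eq_neg (h2 : (2 : F) ≠ 0) {a : Matrix ι ι F} (h : a = -a) : a = 0 := by
  have : (2 : F) • a = 0 := by rw [two_smul]; nth_rw 1 [h]; simp
  exact (smul_eq_zero.1 this).resolve_left h2

theorem eq_fromBlocks_of_comm (h2 : (2 : F) ≠ 0) {a : Matrix (ι ⊕ ι) (ι ⊕ ι) F}
    (h : a * fromBlocks 1 0 0 (-1) = fromBlocks 1 0 0 (-1) * a) :
    a = fromBlocks a.toBlocks₁₁ 0 0 a.toBlocks₂₂ := by
  rw [← fromBlocks_toBlocks a] at h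
  simp only [fromBlocks_multiply, Matrix.mul_one, Matrix.mul_zero, add_zero, zero_add,
    Matrix.one_mul, Matrix.zero_mul, Matrix.mul_neg, Matrix.neg_mul, fromBlocks_inj] at h
  conv_lhs => rw [← fromBlocks_toBlocks a, eq_zero_of_eq_neg h2 h.2.1.symm,
    eq_zero_of_eq_neg h2 h.2.2.1]

/-- A `2`-subgroup whose part of determinant one is centralised by scalars only, and which is
normalised by no nonscalar element of odd order. -/
structure Good (S : Subgroup (GL ι F)) : Prop where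
  two : IsPGroup 2 S
  neg : -1 ∈ S
  comm : ∀ a : Matrix ι ι F, (∀ s ∈ S, s.1.det = 1 → a * s.1 = s.1 * a) → ∃ c : F, a = c • 1
  odd : ∀ x : GL ι F, Odd (orderOf x) → (∀ s ∈ S, x * s * x⁻¹ ∈ S) → ∃ c : F, x.1 = c • 1

theorem comm_of_conj_eq_or {G : Type*} [Group G] [HasDistribNeg G] {x t : G} (hx : Odd (orderOf x))
    (ht : t ≠ -t) (h : x * t * x⁻¹ = t ∨ x * t * x⁻¹ = -t) : x * t = t * x := by
  rcases h with h | h
  · exact mul_inv_eq_iff_eq_mul.1 h
  · exfalso
    rw [mul_inv_eq_iff_eq_mul] at h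
    obtain ⟨k, hk⟩ := hx
    have h1 : Commute (x ^ 2) t := by
      rw [Commute, SemiconjBy, sq, mul_assoc, h, neg_mul, mul_neg, ← mul_assoc, h]
      simp [mul_assoc]
    have h2 := pow_orderOf_eq_one x
    rw [hk, pow_succ, pow_mul] at h2
    have h3 : (x ^ 2) ^ k * x * t = -(t * ((x ^ 2) ^ k * x)) := by
      rw [mul_assoc, h, neg_mul, mul_neg, ← mul_assoc, (h1.pow_left k).eq, mul_assoc]
    rw [h2, one_mul, mul_one] at h3
    exact ht h3

theorem Good.wr2_comm (h2 : (2 : F) ≠ 0) (hι : Even (Fintype.card ι)) {S : Subgroup (GL ι F)}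
    (hS : Good S) (a : Matrix (ι ⊕ ι) (ι ⊕ ι) F)
    (ha : ∀ s ∈ wr2 S, s.1.det = 1 → a * s.1 = s.1 * a) : ∃ c : F, a = c • 1 := by
  have h1 := eq_fromBlocks_of_comm h2 (ha _ (blockGL_mem_wr2 S.one_mem hS.neg)
    (by simp [det_blockGL, det_neg, hι.neg_one_pow]))
  obtain ⟨c, hc⟩ := hS.comm a.toBlocks₁₁ fun s hs hd => by
    have := ha _ (blockGL_mem_wr2 hs S.one_mem) (by simp [det_blockGL, hd])
    rw [h1] at this
    simp only [coe_blockGL, fromBlocks_multiply, fromBlocks_inj] at this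
    simpa using this.1
  have h3 := ha _ (antiGL_mem_wr2 S.one_mem hS.neg) det_antiGL_one_neg_one
  rw [h1] at h3
  simp only [coe_antiGL, fromBlocks_multiply, fromBlocks_inj] at h3
  have h4 : a.toBlocks₁₁ = a.toBlocks₂₂ := by simpa using h3.2.1
  exact ⟨c, by rw [h1, ← h4, hc, ← fromBlocks_one, fromBlocks_smul, smul_zero]⟩

theorem Good.wr2_odd (h2 : (2 : F) ≠ 0) [Nontrivial ι] (hι : Even (Fintype.card ι))
    {S : Subgroup (GL ι F)} (hS : Good S) (x : GL (ι ⊕ ι) F) (hx : Odd (orderOf x))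
    (h : ∀ s ∈ wr2 S, s.1.det = 1 → x * s * x⁻¹ ∈ wr2 S) : ∃ c : F, x.1 = c • 1 := by
  have hdet : ∀ y s : GL (ι ⊕ ι) F, (y * s * y⁻¹).1.det = s.1.det := fun y s => by
    rw [Units.val_mul, Units.val_mul, det_units_conj]
  have hpow : ∀ k : ℕ, ∀ s ∈ wr2 S, s.1.det = 1 → x ^ k * s * (x ^ k)⁻¹ ∈ wr2 S := by
    intro k
    induction k with
    | zero => intro s hs _; simpa using hs
    | succ k ih =>
      intro s hs hd
      have := h _ (ih s hs hd) (by rw [hdet, hd])
      simpa only [pow_succ', _root_.mul_inv_rev, mul_assoc] using this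
  have hinv : ∀ s ∈ wr2 S, s.1.det = 1 → x⁻¹ * s * x ∈ wr2 S := by
    intro s hs hd
    have h1 : x ^ (orderOf x - 1) = x⁻¹ := by
      rw [eq_inv_iff_mul_eq_one, ← pow_succ, Nat.sub_add_cancel hx.pos, pow_orderOf_eq_one]
    have := hpow (orderOf x - 1) s hs hd
    rwa [h1, inv_inv] at this
  set t := blockGL F ι ι (1, -1) with ht
  have ht1 : t.1 = fromBlocks 1 0 0 (-1) := rfl
  have htS : t ∈ wr2 S := blockGL_mem_wr2 S.one_mem hS.neg
  have htd : t.1.det = 1 := by simp [ht, det_blockGL, det_neg, hι.neg_one_pow]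
  have hst : ∀ s ∈ wr2 S, s * t = t * s ∨ s * t = -(t * s) := by
    rintro s ⟨a, -, b, -, hs | hs⟩
    · exact Or.inl (Units.ext (by simp [hs, ht1, fromBlocks_multiply]))
    · exact Or.inr (Units.ext (by simp [hs, ht1, fromBlocks_multiply, fromBlocks_neg]))
  have hsu : ∀ s ∈ wr2 S, s.1.det = 1 → s.1 * (x * t * x⁻¹).1 = (x * t * x⁻¹).1 * s.1 ∨
      s.1 * (x * t * x⁻¹).1 = -((x * t * x⁻¹).1 * s.1) := by
    intro s hs hd
    refine (hst _ (hinv s hs hd)).imp (fun h1 => ?_) (fun h1 => ?_)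
    · rw [← Units.val_mul, ← Units.val_mul]
      congr 1
      have := congrArg (fun y => x * y * x⁻¹) h1
      simpa [mul_assoc] using this
    · rw [← Units.val_mul, ← Units.val_mul, ← Units.val_neg]
      congr 1
      have := congrArg (fun y => x * y * x⁻¹) h1
      simpa [mul_assoc] using this
  have h11 : (1 : Matrix ι ι F) ≠ -1 := fun h1 => one_ne_zero (eq_zero_of_eq_neg h2 h1)
  have hunit : ∀ b : GL ι F, b.1 ≠ -b.1 := fun b h1 => b.ne_zero (eq_zero_of_eq_neg h2 h1)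
  have htt : t * t = 1 := Units.ext (by simp [ht1, fromBlocks_multiply])
  have hxt : x * t * x⁻¹ = t ∨ x * t * x⁻¹ = -t := by
    obtain ⟨a, ha, b, hb, hu | hu⟩ := h t htS htd
    · obtain ⟨α, hα⟩ := hS.comm a.1 fun s hs hd => by
        have := hsu _ (blockGL_mem_wr2 hs S.one_mem) (by simp [det_blockGL, hd])
        rw [hu] at this
        simp only [coe_blockGL, fromBlocks_multiply, fromBlocks_inj, fromBlocks_neg] at this
        rcases this with h1 | h1
        · simpa using h1.1.symm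
        · exact absurd (by simpa using h1.2.2.2) (hunit b)
      obtain ⟨β, hβ⟩ := hS.comm b.1 fun s hs hd => by
        have := hsu _ (blockGL_mem_wr2 S.one_mem hs) (by simp [det_blockGL, hd])
        rw [hu] at this
        simp only [coe_blockGL, fromBlocks_multiply, fromBlocks_inj, fromBlocks_neg] at this
        rcases this with h1 | h1
        · simpa using h1.2.2.2.symm
        · exact absurd (by simpa using h1.1) (hunit a)
      have h3 : (x * t * x⁻¹).1 * (x * t * x⁻¹).1 = 1 := by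
        rw [← Units.val_mul, conj_mul, htt]
        simp
      rw [hu, hα, hβ, ← fromBlocks_one] at h3
      simp only [fromBlocks_multiply, fromBlocks_inj, Matrix.mul_zero, Matrix.zero_mul, add_zero,
        zero_add, smul_mul_smul_comm, Matrix.mul_one] at h3
      have h4 : ∀ γ : F, (γ * γ) • (1 : Matrix ι ι F) = 1 → γ = 1 ∨ γ = -1 := fun γ hγ =>
        mul_self_eq_one_iff.1 (smul_left_injective F one_ne_zero (hγ.trans (one_smul F _).symm))
      have h5 : ∀ γ : F, (x * t * x⁻¹).1 ≠ γ • 1 := by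
        intro γ hγ
        have h6 : t.1 = γ • 1 := by
          have : t.1 = x⁻¹.1 * (x * t * x⁻¹).1 * x.1 := by
            rw [← Units.val_mul, ← Units.val_mul]; congr 1; group
          rw [this, hγ]
          simp
        rw [ht1, ← fromBlocks_one, fromBlocks_smul, fromBlocks_inj] at h6
        exact h11 (h6.1.trans h6.2.2.2.symm)
      rw [hα, hβ] at hu
      rcases h4 α h3.1 with rfl | rfl <;> rcases h4 β h3.2.2.2 with rfl | rfl
      · exact absurd (by rw [hu, ← fromBlocks_one, fromBlocks_smul, smul_zero]) (h5 1)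
      · exact Or.inl (Units.ext (by rw [hu, ht1]; simp))
      · exact Or.inr (Units.ext (by rw [hu, Units.val_neg, ht1, fromBlocks_neg]; simp))
      · exact absurd (by rw [hu, ← fromBlocks_one, fromBlocks_smul, smul_zero]) (h5 (-1))
    · exfalso
      obtain ⟨i, j, hij⟩ := exists_pair_ne ι
      obtain ⟨c, hc⟩ := hS.comm (single i j 1) fun s hs hd => by
        have := hsu _ (blockGL_mem_wr2 hs S.one_mem) (by simp [det_blockGL, hd])
        rw [hu] at this
        simp only [coe_blockGL, fromBlocks_multiply, fromBlocks_inj, fromBlocks_neg] at this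
        rcases this with h1 | h1
        · have h3 : s.1 = 1 := (Units.mul_left_inj a).1 (by simpa using h1.2.1)
          simp [h3]
        · have h3 : s.1 = -1 := (Units.mul_left_inj a).1 (by simpa using h1.2.1)
          simp [h3]
      have := congrFun (congrFun hc i) j
      simp [hij] at this
  have hc := comm_of_conj_eq_or hx (fun h1 => by
    have := congrArg Units.val h1
    rw [Units.val_neg, ht1, fromBlocks_neg, fromBlocks_inj] at this
    exact h11 this.1) hxt
  have h6 := eq_fromBlocks_of_comm h2 (a := x.1) (congrArg Units.val hc)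
  obtain ⟨⟨y, z⟩, rfl⟩ := (mem_range_blockGL x).2 ⟨by rw [h6]; simp, by rw [h6]; simp⟩
  rw [orderOf_injective _ blockGL_injective] at hx
  have hy : Odd (orderOf y) := hx.of_dvd_nat (orderOf_fst_dvd_orderOf (x := (y, z)))
  have hz : Odd (orderOf z) := hx.of_dvd_nat (orderOf_snd_dvd_orderOf (x := (y, z)))
  have h7 : ∀ a ∈ S, ∀ b ∈ S, a.1.det * b.1.det = 1 → y * a * y⁻¹ ∈ S ∧ z * b * z⁻¹ ∈ S := by
    intro a ha b hb hd
    have := h _ (blockGL_mem_wr2 ha hb) (by rw [det_blockGL, hd])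
    rw [← map_inv, ← map_mul, ← map_mul] at this
    obtain ⟨c, hc, d, hd, h8 | h8⟩ := this <;> rw [coe_blockGL, fromBlocks_inj] at h8
    · exact ⟨(Units.ext h8.1 : y * a * y⁻¹ = c) ▸ hc, (Units.ext h8.2.2.2 : z * b * z⁻¹ = d) ▸ hd⟩
    · exact absurd h8.1 (Units.ne_zero _)
  obtain ⟨α, hα⟩ := hS.odd y hy fun s hs => 
    (h7 s hs s⁻¹ (inv_mem hs) (by rw [← det_mul, Units.mul_inv, det_one])).1
  obtain ⟨β, hβ⟩ := hS.odd z hz fun s hs => 
    (h7 s⁻¹ (inv_mem hs) s hs (by rw [← det_mul, Units.inv_mul, det_one])).2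
  have h8 : y * z⁻¹ ∈ S := by
    obtain ⟨c, hc, d, hd, h9 | h9⟩ :=
      h _ (antiGL_mem_wr2 S.one_mem hS.neg) det_antiGL_one_neg_one <;>
      rw [← map_inv, Units.val_mul, Units.val_mul, coe_blockGL, coe_blockGL, coe_antiGL] at h9 <;>
      simp only [fromBlocks_multiply, fromBlocks_inj, Matrix.mul_zero, Matrix.zero_mul, add_zero,
        zero_add, Units.val_one, Matrix.mul_one] at h9
    · exact absurd h9.1.symm c.ne_zero
    · exact (Units.ext h9.2.1 : y * z⁻¹ = c) ▸ hc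
  have h9 : Commute y z⁻¹ := Units.ext (by simp [hα])
  have h10 : y * z⁻¹ = 1 := Alt.eq_one_of_isPGroup_of_pow hS.two h8
    (orderOf_dvd_iff_pow_eq_one.1 h9.orderOf_mul_dvd_mul_orderOf)
    (Nat.coprime_two_left.2 (hy.mul (by rwa [orderOf_inv])))
  rw [mul_inv_eq_one] at h10
  subst h10
  exact ⟨α, by rw [coe_blockGL, hα, ← fromBlocks_one, fromBlocks_smul, smul_zero]⟩

theorem Good.wr2 [Finite F] (h2 : (2 : F) ≠ 0) [Nontrivial ι] (hι : Even (Fintype.card ι))
    {S : Subgroup (GL ι F)} (hS : Good S) : Good (wr2 S) where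
  two := by
    obtain ⟨k, hk⟩ := IsPGroup.iff_card.1 hS.two
    exact IsPGroup.of_card (n := 2 * k + 1) (by rw [card_wr2, hk]; ring)
  neg := ⟨-1, hS.neg, -1, hS.neg, Or.inl (by simp [← fromBlocks_one, fromBlocks_neg])⟩
  comm := hS.wr2_comm h2 hι
  odd x hx h := hS.wr2_odd h2 hι x hx fun s hs _ => h s hs

open SL2 in
/-- The base case: nonabelian `2`-subgroups of `GL 2 F` whose image in `PGL 2 F` has order at
least `8`. -/
theorem good_of_fin_two [Finite F] (h2 : (2 : F) ≠ 0) {S : Subgroup (GL (Fin 2) F)}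
    (hp : IsPGroup 2 S) (hneg : -1 ∈ S)
    (hnc : ∃ s ∈ S, ∃ s' ∈ S, s.1.det = 1 ∧ s'.1.det = 1 ∧ s * s' ≠ s' * s)
    (hidx : 4 < (Subgroup.center (GL (Fin 2) F)).relIndex S) : Good S := by
  obtain ⟨s₁, hs₁, s₂, hs₂, hd₁, hd₂, hne⟩ := hnc
  have hcomm : ∀ a : Matrix (Fin 2) (Fin 2) F, (∀ s ∈ S, s.1.det = 1 → a * s.1 = s.1 * a) →
      IsScal a := by
    intro a ha
    by_contra h
    exact hne (Units.ext (comm_of_comm h (ha _ hs₁ hd₁).symm (ha _ hs₂ hd₂).symm))
  refine ⟨hp, hneg, fun a ha => isScal_iff.1 (hcomm a ha), fun x hx h => ?_⟩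
  let Ω : GL (Fin 2) F → Prop := fun u =>
    u ∈ S ∧ ¬ IsScal u.1 ∧ ∀ s ∈ S, s * u = u * s ∨ s * u = -(u * s)
  have hsgn : ∀ (g u : GL (Fin 2) F) (c : F), (g * u * g⁻¹).1 = c • u.1 →
      g * u * g⁻¹ = u ∨ g * u * g⁻¹ = -u := by
    intro g u c hc
    have h1 := congrArg det hc
    rw [Units.val_mul, Units.val_mul, det_units_conj, det_smul, Fintype.card_fin, sq] at h1
    have h3 : c * c = 1 := mul_right_cancel₀ (GeneralLinearGroup.det_ne_zero u)
      (h1.symm.trans (one_mul _).symm)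
    rcases mul_self_eq_one_iff.1 h3 with rfl | rfl
    · exact Or.inl (Units.ext (by simpa using hc))
    · exact Or.inr (Units.ext (by simpa using hc))
  obtain ⟨u, hu⟩ : ∃ u, Ω u := by
    obtain ⟨_, ⟨u, huS, rfl⟩, ho, hc⟩ := exists_central_of_isPGroup
      (hp.map (QuotientGroup.mk' (Subgroup.center (GL (Fin 2) F)))) (by
        intro h0
        rw [Subgroup.map_eq_bot_iff, QuotientGroup.ker_mk'] at h0
        exact hne (Subgroup.mem_center_iff.1 (h0 hs₂) s₁))
    refine ⟨u, huS, fun h0 => ?_, fun s hs => ?_⟩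
    · rw [← GL_mem_center_iff, ← QuotientGroup.eq_one_iff] at h0
      rw [QuotientGroup.mk'_apply, h0, orderOf_one] at ho
      omega
    · have h1 := hc _ ⟨s, hs, rfl⟩
      rw [← mul_inv_eq_iff_eq_mul, ← map_inv, ← map_mul, ← map_mul, eq_comm,
        QuotientGroup.mk'_apply, QuotientGroup.mk'_apply, QuotientGroup.eq, GL_mem_center_iff,
        isScal_iff] at h1
      obtain ⟨c, hc⟩ := h1
      rw [Units.val_mul, Units.inv_mul_eq_iff_eq_mul, mul_smul_comm, mul_one] at hc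
      refine (hsgn s u c hc).imp mul_inv_eq_iff_eq_mul.1 fun h3 => ?_
      rw [mul_inv_eq_iff_eq_mul.1 h3, neg_mul]
  obtain ⟨s, hs, hsu⟩ : ∃ s ∈ S, s * u = -(u * s) := by
    by_contra h0
    push Not at h0
    exact hu.2.1 (hcomm _ fun s hs _ =>
      (congrArg Units.val ((hu.2.2 s hs).resolve_right (h0 s hs))).symm)
  have hsu' : s.1 * u.1 = -(u.1 * s.1) := congrArg Units.val hsu
  have hidx2 : ∀ v, Ω v → (Subgroup.centralizer {v}).relIndex S ≤ 2 := by
    intro v hv
    by_cases h0 : ∀ s ∈ S, s * v = v * s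
    · rw [Subgroup.relIndex_eq_one.2 fun s hs => mem_cent_iff.2 (h0 s hs)]
      omega
    · push Not at h0
      obtain ⟨a, ha, h0⟩ := h0
      have h1 := (hv.2.2 a ha).resolve_left h0
      refine Nat.le_of_dvd two_pos (Subgroup.index_dvd_two_iff.2 ⟨⟨a, ha⟩, fun b => ?_⟩)
      rw [Subgroup.mem_subgroupOf, Subgroup.mem_subgroupOf, mem_cent_iff, mem_cent_iff]
      refine (hv.2.2 b b.2).symm.imp (fun h3 => ?_) id
      rw [Subgroup.coe_mul, mul_assoc, h1, mul_neg, ← mul_assoc, h3, neg_mul, neg_neg, mul_assoc]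
  have huniq : ∀ v, Ω v → ∃ c : F, v.1 = c • u.1 := by
    intro v hv
    by_cases h0 : v * u = u * v
    · obtain ⟨α, β, h1⟩ := (comm_iff hu.2.1 v.1).1 (congrArg Units.val h0)
      have hus : u.1 * s.1 ≠ 0 := (u * s).ne_zero
      rcases hv.2.2 s hs with h3 | h3 <;> replace h3 := congrArg Units.val h3 <;>
        simp only [Units.val_mul, Units.val_neg, h1, mul_add, add_mul, mul_smul_comm,
          smul_mul_assoc, mul_one, one_mul, hsu'] at h3
      · have h4 : (2 * β) • (u.1 * s.1) = 0 := by linear_combination (norm := module) -h3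
        have h5 : β = 0 := by simpa [h2, hus] using h4
        exact absurd (by rw [h1, h5, zero_smul, add_zero]; exact isScal_smul_one α) hv.2.1
      · have h4 : (2 * α) • s.1 = 0 := by linear_combination (norm := module) h3
        have h5 : α = 0 := by simpa [h2, s.ne_zero] using h4
        exact ⟨β, by rw [h1, h5, zero_smul, zero_add]⟩
    · exfalso
      have h1 : Subgroup.centralizer {u} ⊓ Subgroup.centralizer {v} ≤
          Subgroup.center (GL (Fin 2) F) := by
        intro g hg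
        rw [GL_mem_center_iff]
        by_contra h3
        exact h0 (Units.ext (comm_of_comm h3 (congrArg Units.val (mem_cent_iff.1 hg.2)).symm
          (congrArg Units.val (mem_cent_iff.1 hg.1)).symm))
      have h3 := Subgroup.relIndex_le_of_le_left (L := S) h1 Subgroup.index_ne_zero_of_finite
      have h4 := Subgroup.relIndex_inf_le (H := Subgroup.centralizer {u})
        (K := Subgroup.centralizer {v}) (L := S)
      have h5 := Nat.mul_le_mul (hidx2 u hu) (hidx2 v hv)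
      omega
  have hN : x ∈ Subgroup.normalizer (S : Set (GL (Fin 2) F)) := Subgroup.mem_normalizer_fintype h
  obtain ⟨c, hc⟩ := huniq (x * u * x⁻¹) ⟨h u hu.1, fun h0 => hu.2.1 (by
      have := h0.conj (P := x⁻¹.1) (Q := x.1) (Units.inv_mul x)
      rw [← Units.val_mul, ← Units.val_mul, show x⁻¹ * (x * u * x⁻¹) * x = u by group] at this
      rwa [this]), fun g hg => by
    refine (hu.2.2 _ ((Subgroup.mem_normalizer_iff''.1 hN g).1 hg)).imp (fun h1 => ?_) fun h1 => ?_
    · have := congrArg (fun y => x * y * x⁻¹) h1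
      simpa [mul_assoc] using this
    · have := congrArg (fun y => x * y * x⁻¹) h1
      simpa [mul_assoc] using this⟩
  have hune : ∀ g : GL (Fin 2) F, g ≠ -g := fun g h0 =>
    g.ne_zero (eq_zero_of_eq_neg h2 (congrArg Units.val h0))
  have hxu := comm_of_conj_eq_or hx (hune u) (hsgn x u c hc)
  have h1 : s * x⁻¹ * s⁻¹ * u = u * (s * x⁻¹ * s⁻¹) := by
    have h3 : s⁻¹ * u = -(u * s⁻¹) := by
      rw [inv_mul_eq_iff_eq_mul, mul_neg, ← mul_assoc, hsu]
      simp
    have h4 : Commute x⁻¹ u := Commute.inv_left hxu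
    rw [mul_assoc, h3, mul_neg, ← mul_assoc, mul_assoc s, h4.eq, ← mul_assoc s, hsu]
    simp [mul_assoc]
  have h3 : Commute x (s * x⁻¹ * s⁻¹) :=
    Units.ext (comm_of_comm hu.2.1 (congrArg Units.val hxu) (congrArg Units.val h1))
  have h4 : x * (s * x⁻¹ * s⁻¹) = 1 := Alt.eq_one_of_isPGroup_of_pow hp
    (by simpa [mul_assoc] using mul_mem (h s hs) (inv_mem hs))
    (orderOf_dvd_iff_pow_eq_one.1 h3.orderOf_mul_dvd_mul_orderOf)
    (Nat.coprime_two_left.2 (hx.mul (by
      rwa [← MulAut.conj_apply, MulEquiv.orderOf_eq, orderOf_inv])))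
  rw [← mul_assoc, mul_inv_eq_one, ← mul_assoc, mul_inv_eq_iff_eq_mul] at h4
  rw [← isScal_iff]
  by_contra h5
  have h6 : s * u = u * s := Units.ext (comm_of_comm h5 (congrArg Units.val h4).symm
    (congrArg Units.val hxu).symm)
  exact hune _ (h6.symm.trans hsu)

end Cfsg.Agent.GLn
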